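import Groth.Agent.RelProjLib.Map

/-!
Ring-level facts about `Proj` used chartwise on a relative Proj; basic opens of global sections.
-/

set_option autoImplicit false
set_option linter.style.haveILetI false
set_option backward.isDefEq.respectTransparency false

universe u

open CategoryTheory CategoryTheory.Limits AlgebraicGeometry TopologicalSpace Opposite
open scoped HomogeneousIdeal

noncomputable section

namespace Groth.Agent.RelProjLib

section ring

variable {A σ : Type u} [CommRing A] [SetLike σ A] [AddSubgroupClass σ A]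
  {𝒜 : ℕ → σ} [GradedRing 𝒜]
  {B τ : Type u} [CommRing B] [SetLike τ B] [AddSubgroupClass τ B]
  {ℬ : ℕ → τ} [GradedRing ℬ]

/-- A graded homomorphism bijective in positive degrees induces an isomorphism of `Proj`. -/
theorem isIso_map_of_bijOn (φ : 𝒜 →+*ᵍ ℬ) (hbij : ∀ n : ℕ, 0 < n → Set.BijOn φ (𝒜 n) (ℬ n))
    (hφ : HomogeneousIdeal.irrelevant ℬ ≤ (HomogeneousIdeal.irrelevant 𝒜).map φ) :
    IsIso (Proj.map φ hφ) := by
  refine (IsZariskiLocalAtTarget.iff_of_openCover (P := MorphismProperty.isomorphisms _)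
    (Proj.affineOpenCover 𝒜).openCover).mpr fun s => ?_
  have hb : Function.Bijective (HomogeneousLocalization.Away.map φ (s.2 : A) :
      HomogeneousLocalization.Away 𝒜 (s.2 : A) → HomogeneousLocalization.Away ℬ (φ (s.2 : A))) := by
    constructor
    · rw [injective_iff_map_eq_zero]
      intro z hz
      obtain ⟨n, a, ha, rfl⟩ := HomogeneousLocalization.Away.mk_surjective 𝒜 s.2.2 z
      obtain ⟨k, hk⟩ := (ProjLib.away_map_mk_eq_zero_iff 𝒜 φ s.2.2 n a ha).mp hz
      have hpos : (0 : ℕ) < ((k + 1) • (s.1 : ℕ) + n • (s.1 : ℕ)) := by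
        have := s.1.2; rw [smul_eq_mul]; positivity
      have hmem : (s.2 : A) ^ (k + 1) * a ∈ 𝒜 ((k + 1) • (s.1 : ℕ) + n • (s.1 : ℕ)) :=
        SetLike.mul_mem_graded (SetLike.pow_mem_graded _ s.2.2) ha
      have h0 : (s.2 : A) ^ (k + 1) * a = 0 := (hbij _ hpos).injOn hmem (zero_mem _) (by
        rw [map_zero, pow_succ', mul_assoc, map_mul, hk, mul_zero])
      refine HomogeneousLocalization.val_injective _ ?_
      rw [HomogeneousLocalization.Away.val_mk, HomogeneousLocalization.val_zero,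
        Localization.mk_eq_mk', IsLocalization.mk'_eq_zero_iff]
      exact ⟨⟨_, k + 1, rfl⟩, h0⟩
    · intro z
      obtain ⟨n, b, hb, rfl⟩ := HomogeneousLocalization.Away.mk_surjective ℬ (Graded.map_mem φ s.2.2) z
      have hpos : (0 : ℕ) < (n + 1) • (s.1 : ℕ) := by
        have := s.1.2; rw [smul_eq_mul]; positivity
      have hmem : φ (s.2 : A) * b ∈ ℬ ((n + 1) • (s.1 : ℕ)) := by
        rw [add_smul, one_smul, add_comm]
        exact SetLike.mul_mem_graded (Graded.map_mem φ s.2.2) hb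
      obtain ⟨a, ha, hab⟩ := (hbij _ hpos).surjOn hmem
      refine ⟨HomogeneousLocalization.Away.mk 𝒜 s.2.2 (n + 1) a ha, ?_⟩
      rw [HomogeneousLocalization.Away.map_mk]
      refine HomogeneousLocalization.val_injective _ ?_
      simp only [HomogeneousLocalization.Away.val_mk, Localization.mk_eq_mk', IsLocalization.mk'_eq_iff_eq]
      congr 1
      rw [hab]
      ring
  haveI : IsIso (CommRingCat.ofHom (HomogeneousLocalization.Away.map φ (s.2 : A))) :=
    (ConcreteCategory.isIso_iff_bijective _).mpr hb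
  have H := ProjLib.isPullback_awayι 𝒜 φ hφ s.2.2 s.1.2
  show IsIso (pullback.snd _ _)
  erw [← H.flip.isoPullback_inv_snd]
  infer_instance

variable (𝒜) in
/-- `Proj 𝒜` is reduced when the irrelevant ideal has no nonzero nilpotents. -/
theorem isReduced_proj (h : ∀ x ∈ 𝒜₊, IsNilpotent x → x = 0) : IsReduced (Proj 𝒜) := by
  haveI : ∀ s, IsReduced ((Proj.affineOpenCover 𝒜).openCover.X s) := fun s => by
    show IsReduced (Spec (.of (HomogeneousLocalization.Away 𝒜 (s.2 : A))))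
    haveI : _root_.IsReduced (HomogeneousLocalization.Away 𝒜 (s.2 : A)) := by
      refine ⟨fun z hz => ?_⟩
      obtain ⟨n, a, ha, rfl⟩ := HomogeneousLocalization.Away.mk_surjective 𝒜 s.2.2 z
      obtain ⟨N, hN⟩ := hz
      replace hN := congrArg HomogeneousLocalization.val hN
      rw [HomogeneousLocalization.val_pow, HomogeneousLocalization.Away.val_mk, Localization.mk_pow,
        HomogeneousLocalization.val_zero, Localization.mk_eq_mk', IsLocalization.mk'_eq_zero_iff] at hN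
      obtain ⟨⟨_, k, rfl⟩, hk⟩ := hN
      change (s.2 : A) ^ k * a ^ N = 0 at hk
      have h0 : (s.2 : A) * a = 0 := by
        refine h _ (Ideal.mul_mem_right _ _
          (HomogeneousIdeal.mem_irrelevant_of_mem _ s.1.2 s.2.2)) ⟨k + N, ?_⟩
        calc ((s.2 : A) * a) ^ (k + N) = (s.2 : A) ^ N * a ^ k * ((s.2 : A) ^ k * a ^ N) := by
              rw [mul_pow, pow_add, pow_add]; ring
          _ = 0 := by rw [hk, mul_zero]
      refine HomogeneousLocalization.val_injective _ ?_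
      rw [HomogeneousLocalization.Away.val_mk, HomogeneousLocalization.val_zero,
        Localization.mk_eq_mk', IsLocalization.mk'_eq_zero_iff]
      exact ⟨⟨_, 1, rfl⟩, by simpa using h0⟩
    infer_instance
  exact IsReduced.of_openCover (Proj 𝒜) (Proj.affineOpenCover 𝒜).openCover

variable (𝒜) in
/-- Homogeneous elements spanning all large degrees give basic opens covering `Proj 𝒜`. -/
theorem exists_not_mem_of_span {ι : Type*} (f : ι → A) (n₀ : ℕ)
    (hgen : ∀ n, n₀ ≤ n → (𝒜 n : Set A) ⊆ Ideal.span (Set.range f)) (y : Proj 𝒜) :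
    ∃ i, y ∈ Proj.basicOpen 𝒜 (f i) := by
  by_contra! hno
  refine y.not_irrelevant_le ((HomogeneousIdeal.toIdeal_irrelevant_le _).mpr fun d hd g hg => ?_)
  have hle : Ideal.span (Set.range f) ≤ y.asHomogeneousIdeal.toIdeal := by
    rw [Ideal.span_le]
    rintro _ ⟨i, rfl⟩
    exact not_not.mp (hno i)
  refine y.isPrime.mem_of_pow_mem (n₀ + 1) (hle (hgen ((n₀ + 1) • d) ?_ (SetLike.pow_mem_graded _ hg)))
  rw [smul_eq_mul]
  nlinarith

end ring

variable {S P : Scheme.{u}} {𝒮 : RelProj.QCGrAlg S} {q : P ⟶ S}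
  {ch : ∀ (U : S.Opens) (hU : IsAffineOpen U), ((q ⁻¹ᵁ U : P.Opens) : Scheme.{u}) ≅ Proj (𝒮.deg U hU)}

lemma chart_image (U : S.Opens) (hU : IsAffineOpen U) (V : (Proj (𝒮.deg U hU)).Opens) :
    (q ⁻¹ᵁ U).ι ''ᵁ ((ch U hU).hom ⁻¹ᵁ V) = RelProj.emb q ch U hU ''ᵁ V := by
  change _ = ((ch U hU).inv ≫ (q ⁻¹ᵁ U).ι) ''ᵁ V
  rw [Scheme.Hom.comp_image, Scheme.Hom.inv_image]

/-- The open `X_f` of a relative Proj attached to a global homogeneous section. -/
def basicOpenOf (q : P ⟶ S)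
    (ch : ∀ (U : S.Opens) (hU : IsAffineOpen U), ((q ⁻¹ᵁ U : P.Opens) : Scheme.{u}) ≅ Proj (𝒮.deg U hU))
    (f : 𝒮.presheaf.obj (op ⊤)) : P.Opens :=
  ⨆ U : S.affineOpens, RelProj.emb q ch U.1 U.2 ''ᵁ
    Proj.basicOpen (𝒮.deg U.1 U.2) ((𝒮.presheaf.map (homOfLE (le_top : U.1 ≤ ⊤)).op).hom f)

variable (hP : RelProj.IsRelProj 𝒮 q ch)
include hP

lemma mem_image_basicOpen_iff (f : 𝒮.presheaf.obj (op ⊤)) {U : S.Opens} (hU : IsAffineOpen U)
    (r : Γ(S, U)) (y : Proj (𝒮.deg (S.basicOpen r) (hU.basicOpen r))) :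
    RelProj.emb q ch (S.basicOpen r) (hU.basicOpen r) y ∈ RelProj.emb q ch U hU ''ᵁ
        Proj.basicOpen (𝒮.deg U hU) ((𝒮.presheaf.map (homOfLE (le_top : U ≤ ⊤)).op).hom f) ↔
      y ∈ Proj.basicOpen (𝒮.deg (S.basicOpen r) (hU.basicOpen r))
        ((𝒮.presheaf.map (homOfLE (le_top : S.basicOpen r ≤ ⊤)).op).hom f) := by
  have hres : 𝒮.res hU (hU.basicOpen r) (S.basicOpen_le r)
      ((𝒮.presheaf.map (homOfLE (le_top : U ≤ ⊤)).op).hom f) =
      (𝒮.presheaf.map (homOfLE (le_top : S.basicOpen r ≤ ⊤)).op).hom f := by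
    rw [RelProj.QCGrAlg.res_apply, ← CommRingCat.comp_apply, ← Functor.map_comp]
    rfl
  rw [← hres, ← Proj.map_preimage_basicOpen _ (𝒮.irrelevant_le_map U hU r),
    ← RelProj.map_res_emb hP U hU r, Scheme.Hom.comp_apply]
  constructor
  · rintro ⟨z, hz, hzeq⟩
    rwa [(RelProj.emb q ch U hU).isOpenEmbedding.injective hzeq] at hz
  · exact fun h => ⟨_, h, rfl⟩

lemma image_inf_le (f : 𝒮.presheaf.obj (op ⊤)) (U V : S.affineOpens) :
    RelProj.emb q ch V.1 V.2 ''ᵁ
        Proj.basicOpen (𝒮.deg V.1 V.2) ((𝒮.presheaf.map (homOfLE (le_top : V.1 ≤ ⊤)).op).hom f) ⊓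
      q ⁻¹ᵁ U.1 ≤ RelProj.emb q ch U.1 U.2 ''ᵁ
        Proj.basicOpen (𝒮.deg U.1 U.2) ((𝒮.presheaf.map (homOfLE (le_top : U.1 ≤ ⊤)).op).hom f) := by
  rintro x ⟨hxV, hxU⟩
  have hqV : q x ∈ V.1 := by
    have := Scheme.Hom.image_le_opensRange _ _ hxV
    rwa [opensRange_emb] at this
  obtain ⟨r, s, e, hr⟩ := exists_basicOpen_le_affine_inter U.2 V.2 (q x) ⟨hxU, hqV⟩
  obtain ⟨y, rfl⟩ : x ∈ (RelProj.emb q ch (S.basicOpen r) (U.2.basicOpen r)).opensRange := by
    rwa [opensRange_emb]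
  rw [mem_image_basicOpen_iff hP f U.2 r]
  have key : ∀ (D : S.Opens) (hD : IsAffineOpen D) (_ : D = S.basicOpen s) (y : Proj (𝒮.deg D hD)),
      RelProj.emb q ch D hD y ∈ RelProj.emb q ch V.1 V.2 ''ᵁ
        Proj.basicOpen (𝒮.deg V.1 V.2) ((𝒮.presheaf.map (homOfLE (le_top : V.1 ≤ ⊤)).op).hom f) →
      y ∈ Proj.basicOpen (𝒮.deg D hD) ((𝒮.presheaf.map (homOfLE (le_top : D ≤ ⊤)).op).hom f) := by
    rintro D hD rfl y hy
    exact (mem_image_basicOpen_iff hP f V.2 s y).mp hy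
  exact key _ _ e y hxV

theorem basicOpenOf_inf (f : 𝒮.presheaf.obj (op ⊤)) (U : S.Opens) (hU : IsAffineOpen U) :
    basicOpenOf q ch f ⊓ q ⁻¹ᵁ U =
      RelProj.emb q ch U hU ''ᵁ
        Proj.basicOpen (𝒮.deg U hU) ((𝒮.presheaf.map (homOfLE (le_top : U ≤ ⊤)).op).hom f) := by
  refine le_antisymm ?_ (le_inf ?_ ?_)
  · rw [basicOpenOf, iSup_inf_eq]
    exact iSup_le fun V => image_inf_le hP f ⟨U, hU⟩ V
  · exact le_iSup (fun V : S.affineOpens => RelProj.emb q ch V.1 V.2 ''ᵁ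
      Proj.basicOpen (𝒮.deg V.1 V.2) ((𝒮.presheaf.map (homOfLE (le_top : V.1 ≤ ⊤)).op).hom f)) ⟨U, hU⟩
  · exact (Scheme.Hom.image_le_opensRange _ _).trans_eq (opensRange_emb U hU)

end Groth.Agent.RelProjLib
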