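import Groth.Agent.RelProjLib.Glue

/-!
Properties of a relative Proj given through `IsRelProj`: local description over the base, uniqueness,
glueing of morphisms out of it.
-/

set_option autoImplicit false
set_option linter.style.haveILetI false
set_option backward.isDefEq.respectTransparency false

universe u

open CategoryTheory CategoryTheory.Limits AlgebraicGeometry TopologicalSpace Opposite
open scoped HomogeneousIdeal

noncomputable section

namespace Groth.Agent.RelProjLib

variable {S P : Scheme.{u}} {𝒮 : RelProj.QCGrAlg S} {q : P ⟶ S}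
  {ch : ∀ (U : S.Opens) (hU : IsAffineOpen U), ((q ⁻¹ᵁ U : P.Opens) : Scheme.{u}) ≅ Proj (𝒮.deg U hU)}

lemma opensRange_emb (U : S.Opens) (hU : IsAffineOpen U) :
    (RelProj.emb q ch U hU).opensRange = q ⁻¹ᵁ U := by
  exact (Scheme.Hom.opensRange_comp_of_isIso _ _).trans (Scheme.Opens.opensRange_ι _)

variable (hP : RelProj.IsRelProj 𝒮 q ch)

include hP

@[reassoc]
lemma emb_p (U : S.Opens) (hU : IsAffineOpen U) :
    RelProj.emb q ch U hU ≫ q = affBase 𝒮 U hU ≫ hU.fromSpec := by
  change ((ch U hU).inv ≫ (q ⁻¹ᵁ U).ι) ≫ q = _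
  rw [affBase_eq, Category.assoc, ← hP.chart_over U hU, Iso.inv_hom_id_assoc, Category.assoc]

lemma isPullback_emb (U : S.Opens) (hU : IsAffineOpen U) :
    IsPullback (affBase 𝒮 U hU) (RelProj.emb q ch U hU) hU.fromSpec q := by
  refine IsOpenImmersion.isPullback _ _ _ _ (emb_p hP U hU) ?_
  rw [opensRange_emb, IsAffineOpen.opensRange_fromSpec]

lemma chart_hom_affBase (U : S.Opens) (hU : IsAffineOpen U) :
    (ch U hU).hom ≫ affBase 𝒮 U hU = (q ∣_ U) ≫ hU.isoSpec.hom := by
  rw [← cancel_mono hU.fromSpec, Category.assoc, Category.assoc, IsAffineOpen.isoSpec_hom_fromSpec,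
    morphismRestrict_ι, ← hP.chart_over U hU, affBase_eq, Category.assoc]

/-- A property local at the target holds for `Proj 𝒮 ⟶ S` if it holds over each affine. -/
theorem prop_of_affBase (Q : MorphismProperty Scheme.{u}) [IsZariskiLocalAtTarget Q]
    (H : ∀ (U : S.Opens) (hU : IsAffineOpen U), Q (affBase 𝒮 U hU)) : Q q := by
  refine IsZariskiLocalAtTarget.of_iSup_eq_top (fun U : S.affineOpens => U.1)
    (iSup_affineOpens_eq_top S) fun U => ?_
  exact (Q.arrow_mk_iso_iff (Arrow.isoMk (ch U.1 U.2) U.2.isoSpec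
    (chart_hom_affBase hP U.1 U.2))).mpr (H U.1 U.2)

omit hP in
/-- The chart immersions cover. -/
lemma iSup_opensRange_emb :
    ⨆ U : S.affineOpens, (RelProj.emb q ch U.1 U.2).opensRange = ⊤ := by
  simp only [opensRange_emb]
  rw [← Scheme.Hom.preimage_iSup, iSup_affineOpens_eq_top S, Scheme.Hom.preimage_top]

omit hP in
/-- The open cover of a relative Proj by its charts. -/
def embCover : P.OpenCover :=
  Scheme.Cover.mkOfCovers S.affineOpens (fun U => Proj (𝒮.deg U.1 U.2))
    (fun U => RelProj.emb q ch U.1 U.2)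
    (fun x => by
      obtain ⟨U, hU⟩ := Opens.mem_iSup.mp
        ((iSup_opensRange_emb (𝒮 := 𝒮) (q := q) (ch := ch)).ge (Set.mem_univ x))
      exact ⟨U, hU⟩)
    (fun U => inferInstanceAs (IsOpenImmersion (RelProj.emb q ch U.1 U.2)))

omit hP in
lemma hom_ext {T : Scheme.{u}} {f g : P ⟶ T}
    (h : ∀ (U : S.Opens) (hU : IsAffineOpen U),
      RelProj.emb q ch U hU ≫ f = RelProj.emb q ch U hU ≫ g) : f = g :=
  (embCover (𝒮 := 𝒮) (q := q) (ch := ch)).hom_ext _ _ fun U => h U.1 U.2

lemma functor_map_emb {U V : S.AffineZariskiSite} (h : V ⟶ U) :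
    (functor 𝒮).map h ≫ RelProj.emb q ch U.1 U.2 = RelProj.emb q ch V.1 V.2 := by
  obtain ⟨r, hr⟩ := h.le
  obtain ⟨V, hV⟩ := V
  change S.basicOpen r = V at hr
  subst hr
  exact RelProj.map_res_emb hP U.1 U.2 r

/-- The comparison from the glued relative Proj. -/
def toP : RelProjLib.P 𝒮 ⟶ P :=
  colimit.desc (glueData 𝒮).functor
    { pt := P
      ι :=
        { app := fun U => RelProj.emb q ch U.1 U.2
          naturality := fun V U h =>
            (functor_map_emb hP h).trans (Category.comp_id _).symm } }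

@[reassoc]
lemma emb₀_toP (U : S.Opens) (hU : IsAffineOpen U) :
    emb₀ 𝒮 U hU ≫ toP hP = RelProj.emb q ch U hU :=
  colimit.ι_desc (F := (glueData 𝒮).functor) _ (⟨U, hU⟩ : S.AffineZariskiSite)

lemma toP_p : toP hP ≫ q = p 𝒮 := by
  refine (glueData 𝒮).cover.hom_ext _ _ fun U => ?_
  change emb₀ 𝒮 U.1 U.2 ≫ toP hP ≫ q = emb₀ 𝒮 U.1 U.2 ≫ p 𝒮
  rw [emb₀_toP_assoc, emb_p hP, emb₀_p]

instance : IsIso (toP hP) := by
  refine (IsZariskiLocalAtTarget.iff_of_openCover (P := MorphismProperty.isomorphisms Scheme.{u})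
    (embCover (𝒮 := 𝒮) (q := q) (ch := ch))).mpr fun U => ?_
  have H : IsPullback (𝟙 _) (emb₀ 𝒮 U.1 U.2) (RelProj.emb q ch U.1 U.2) (toP hP) := by
    refine IsOpenImmersion.isPullback _ _ _ _ (by rw [emb₀_toP, Category.id_comp]) ?_
    rw [opensRange_emb, ← Scheme.Hom.comp_preimage, toP_p, p_preimage 𝒮 U.1 U.2]
  show IsIso (pullback.snd _ _)
  erw [← H.flip.isoPullback_inv_snd]
  infer_instance

/-- Morphisms out of a relative Proj are glued from compatible morphisms out of the charts. -/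
theorem existsUnique_desc {T : Scheme.{u}}
    (g : ∀ (U : S.Opens) (hU : IsAffineOpen U), Proj (𝒮.deg U hU) ⟶ T)
    (hg : ∀ (U : S.Opens) (hU : IsAffineOpen U) (r : Γ(S, U)),
      Proj.map (𝒮.res hU (hU.basicOpen r) (S.basicOpen_le r)) (𝒮.irrelevant_le_map U hU r) ≫ g U hU =
        g (S.basicOpen r) (hU.basicOpen r)) :
    ∃! h : P ⟶ T, ∀ (U : S.Opens) (hU : IsAffineOpen U), RelProj.emb q ch U hU ≫ h = g U hU := by
  have hnat : ∀ {U V : S.AffineZariskiSite} (h : V ⟶ U),
      (functor 𝒮).map h ≫ g U.1 U.2 = g V.1 V.2 := fun {U V} h => by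
    obtain ⟨r, hr⟩ := h.le
    obtain ⟨V, hV⟩ := V
    change S.basicOpen r = V at hr
    subst hr
    exact hg U.1 U.2 r
  let d : RelProjLib.P 𝒮 ⟶ T := colimit.desc (glueData 𝒮).functor
    { pt := T
      ι :=
        { app := fun U => g U.1 U.2
          naturality := fun V U h => (hnat h).trans (Category.comp_id _).symm } }
  refine ⟨inv (toP hP) ≫ d, fun U hU => ?_, fun h' hh' => hom_ext (𝒮 := 𝒮) (q := q) (ch := ch) fun U hU => ?_⟩
  · rw [← emb₀_toP hP, Category.assoc, IsIso.hom_inv_id_assoc]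
    exact colimit.ι_desc (F := (glueData 𝒮).functor) _ (⟨U, hU⟩ : S.AffineZariskiSite)
  · rw [hh' U hU, ← emb₀_toP hP, Category.assoc, IsIso.hom_inv_id_assoc]
    symm
    exact colimit.ι_desc (F := (glueData 𝒮).functor) _ (⟨U, hU⟩ : S.AffineZariskiSite)

lemma isSeparated_p : IsSeparated q :=
  prop_of_affBase hP @IsSeparated fun U hU => by
    rw [affBase_eq]; infer_instance

end Groth.Agent.RelProjLib
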