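import Mathlib
import Groth.Agent.ProjLib.ClosedSub

/-!
`Proj.map` of a graded homomorphism `ψ : 𝒜 → ℬ` over a base: naturality over `Spec A₀`, and the
cartesian square in the case where `B = A[1/r]` for `r` in the degree-zero base.
-/

set_option autoImplicit false
set_option linter.style.haveILetI false
set_option backward.isDefEq.respectTransparency false

universe u

open CategoryTheory CategoryTheory.Limits AlgebraicGeometry HomogeneousLocalization
open scoped HomogeneousIdeal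

noncomputable section

namespace Groth.Agent.RelProjLib

variable {A σ : Type u} [CommRing A] [SetLike σ A] [AddSubgroupClass σ A]
  {𝒜 : ℕ → σ} [GradedRing 𝒜]
  {B τ : Type u} [CommRing B] [SetLike τ B] [AddSubgroupClass τ B]
  {ℬ : ℕ → τ} [GradedRing ℬ] (ψ : 𝒜 →+*ᵍ ℬ)
  (hψ : HomogeneousIdeal.irrelevant ℬ ≤ (HomogeneousIdeal.irrelevant 𝒜).map ψ)

/-- The degree-zero component of a graded ring homomorphism. -/
def zeroHom : CommRingCat.of (𝒜 0) ⟶ CommRingCat.of (ℬ 0) :=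
  CommRingCat.ofHom
    { toFun := fun a => ⟨ψ (a : A), Graded.map_mem ψ a.2⟩
      map_one' := Subtype.ext (map_one ψ)
      map_mul' := fun x y => Subtype.ext (map_mul ψ (x : A) (y : A))
      map_zero' := Subtype.ext (map_zero ψ)
      map_add' := fun x y => Subtype.ext (map_add ψ (x : A) (y : A)) }

lemma zeroHom_coe (a : 𝒜 0) : ((zeroHom ψ).hom a : B) = ψ (a : A) := rfl

lemma val_fromZero (x : Submonoid A) (a : 𝒜 0) :
    (fromZeroRingHom 𝒜 x a).val = algebraMap A (Localization x) (a : A) :=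
  Localization.mk_one_eq_algebraMap (a : A)

lemma away_map_fromZero (s : A) (a : 𝒜 0) :
    Away.map ψ s (fromZeroRingHom 𝒜 _ a) = fromZeroRingHom ℬ _ ((zeroHom ψ).hom a) := by
  refine val_injective _ ?_
  simp only [fromZeroRingHom, Away.map, RingHom.coe_mk, MonoidHom.coe_mk, OneHom.coe_mk]
  simp [HomogeneousLocalization.map, val_mk]
  rfl

@[reassoc]
lemma map_toSpecZero :
    Proj.map ψ hψ ≫ Proj.toSpecZero 𝒜 = Proj.toSpecZero ℬ ≫ Spec.map (zeroHom ψ) := by
  refine (Proj.mapAffineOpenCover ψ hψ).openCover.hom_ext _ _ fun s => ?_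
  simp only [Scheme.AffineOpenCover.openCover_f, Proj.mapAffineOpenCover_f]
  rw [Proj.awayι_comp_map_assoc ψ hψ s.1.2 _ s.2.2, Proj.awayι_toSpecZero,
    Proj.awayι_toSpecZero_assoc, ← Spec.map_comp, ← Spec.map_comp]
  congr 1
  ext a : 2
  exact away_map_fromZero ψ _ a

variable (R R' : CommRingCat.{u}) (a : R ⟶ CommRingCat.of (𝒜 0)) (b : R' ⟶ CommRingCat.of (ℬ 0))
  (ρ : R ⟶ R')

/-- The structure map `Proj 𝒜 ⟶ Spec R` attached to `R ⟶ A₀`. -/
abbrev toBase : Proj 𝒜 ⟶ Spec R := Proj.toSpecZero 𝒜 ≫ Spec.map a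

variable {R R'} in
lemma map_toBase (hcomm : a ≫ zeroHom ψ = ρ ≫ b) :
    Proj.map ψ hψ ≫ toBase (𝒜 := 𝒜) R a = toBase (𝒜 := ℬ) R' b ≫ Spec.map ρ := by
  simp only [toBase, Category.assoc, map_toSpecZero_assoc, ← Spec.map_comp, hcomm]

section away

variable {ψ R R' a b ρ} (hcomm : a ≫ zeroHom ψ = ρ ≫ b) (r : R)
  (hr : IsUnit (ρ.hom r))
  (hB : letI := (ψ : A →+* B).toAlgebra
    IsLocalization.Away ((a.hom r : 𝒜 0) : A) B)

include hcomm hr in
lemma isUnit_away_map_fromZero (s : A) :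
    IsUnit (Away.map ψ s (fromZeroRingHom 𝒜 _ (a.hom r))) := by
  rw [away_map_fromZero]
  refine IsUnit.map _ ?_
  have : (zeroHom ψ).hom (a.hom r) = b.hom (ρ.hom r) := congr($(hcomm).hom r)
  rw [this]
  exact hr.map b.hom

include hcomm hr hB in
lemma isLocalization_away_map {s : A} {d : ℕ} (hs : s ∈ 𝒜 d) :
    letI := (Away.map ψ s).toAlgebra
    IsLocalization.Away (fromZeroRingHom 𝒜 (.powers s) (a.hom r)) (Away ℬ (ψ s)) := by
  classical
  letI := (Away.map ψ s).toAlgebra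
  letI := (ψ : A →+* B).toAlgebra
  haveI := hB
  set c : A := ((a.hom r : 𝒜 0) : A) with hc
  have hc0 : c ∈ 𝒜 0 := (a.hom r).2
  have hval : ∀ k : ℕ, (fromZeroRingHom 𝒜 (.powers s) (a.hom r) ^ k).val =
      Localization.mk (c ^ k) 1 := fun k => by
    rw [val_pow, val_fromZero, ← map_pow, ← Localization.mk_one_eq_algebraMap]
  constructor
  constructor
  · rintro ⟨_, k, rfl⟩
    simp only [map_pow, RingHom.algebraMap_toAlgebra]
    exact (isUnit_away_map_fromZero hcomm r hr s).pow k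
  · intro z
    obtain ⟨n, y, hy, rfl⟩ := Away.mk_surjective ℬ (Graded.map_mem ψ hs) z
    obtain ⟨⟨x, ⟨_, k, rfl⟩⟩, hxy⟩ := IsLocalization.surj (Submonoid.powers c) y
    change y * ψ (c ^ k) = ψ x at hxy
    have hmem : y * ψ (c ^ k) ∈ ℬ (n • d) := by
      have h0 : ψ (c ^ k) ∈ ℬ 0 := Graded.map_mem ψ (by simpa using SetLike.pow_mem_graded k hc0)
      simpa using SetLike.mul_mem_graded hy h0
    refine ⟨⟨Away.mk 𝒜 hs n (DirectSum.decompose 𝒜 x (n • d) : A) (SetLike.coe_mem _), _, k, rfl⟩,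
      val_injective _ ?_⟩
    have hx : ψ (DirectSum.decompose 𝒜 x (n • d) : A) = y * ψ (c ^ k) := by
      rw [GradedRingHom.map_directSumDecompose, ← hxy, DirectSum.decompose_of_mem_same ℬ hmem]
    rw [RingHom.algebraMap_toAlgebra, Away.map_mk, val_mul, Away.val_mk, Away.val_mk]
    rw [map_pow (Away.map ψ s), away_map_fromZero, val_pow, val_fromZero, zeroHom_coe, ← hc,
      ← map_pow (algebraMap B _), ← Localization.mk_one_eq_algebraMap, Localization.mk_mul, mul_one,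
      hx, ← map_pow ψ]
  · intro x y hxy
    obtain ⟨n, z, hz, hzeq⟩ := Away.mk_surjective 𝒜 hs (x - y)
    have h0 : Away.map ψ s (Away.mk 𝒜 hs n z hz) = 0 := by
      rw [hzeq, map_sub, sub_eq_zero]; exact hxy
    obtain ⟨k, hk⟩ := (ProjLib.away_map_mk_eq_zero_iff 𝒜 ψ hs n z hz).mp h0
    obtain ⟨⟨_, m, rfl⟩, hm⟩ := (IsLocalization.map_eq_zero_iff (Submonoid.powers c) B _).mp
      (show algebraMap A B (s ^ k * z) = 0 from hk)
    refine ⟨⟨_, m, rfl⟩, ?_⟩
    rw [← sub_eq_zero, ← mul_sub, ← hzeq]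
    refine val_injective _ ?_
    rw [val_mul, hval, Away.val_mk, Localization.mk_mul, one_mul, val_zero,
      Localization.mk_eq_mk', IsLocalization.mk'_eq_zero_iff]
    refine ⟨⟨_, k, rfl⟩, ?_⟩
    change s ^ k * (c ^ m * z) = 0
    rw [← hm]; ring

include hcomm hr hB in
lemma isOpenImmersion_map : IsOpenImmersion (Proj.map ψ hψ) := by
  refine IsZariskiLocalAtTarget.of_openCover (Proj.affineOpenCover 𝒜).openCover fun s => ?_
  have H := ProjLib.isPullback_awayι 𝒜 ψ hψ s.2.2 s.1.2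
  letI := (Away.map ψ (s.2 : A)).toAlgebra
  haveI := isLocalization_away_map hcomm r hr hB s.2.2
  haveI : IsOpenImmersion (Spec.map (CommRingCat.ofHom (Away.map ψ (s.2 : A)))) :=
    IsOpenImmersion.of_isLocalization (fromZeroRingHom 𝒜 (.powers (s.2 : A)) (a.hom r))
  show IsOpenImmersion (pullback.snd _ _)
  erw [← H.flip.isoPullback_inv_snd]
  infer_instance

include hcomm hr hB in
lemma range_map :
    Set.range (Proj.map ψ hψ).base =
      (toBase (𝒜 := 𝒜) R a).base ⁻¹' SetLike.coe (PrimeSpectrum.basicOpen r) := by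
  ext x
  obtain ⟨s, q, rfl⟩ : ∃ (s : Σ i : PNat, 𝒜 i) (q : _),
      Proj.awayι 𝒜 (s.2 : A) s.2.2 s.1.2 q = x :=
    ⟨_, (Proj.affineOpenCover 𝒜).openCover.exists_eq x |>.choose_spec⟩
  have H := ProjLib.isPullback_awayι 𝒜 ψ hψ s.2.2 s.1.2
  letI := (Away.map ψ (s.2 : A)).toAlgebra
  haveI := isLocalization_away_map hcomm r hr hB s.2.2
  have hq : q ∈ Set.range (Spec.map (CommRingCat.ofHom (Away.map ψ (s.2 : A)))).base ↔
      q ∈ PrimeSpectrum.basicOpen (fromZeroRingHom 𝒜 (.powers (s.2 : A)) (a.hom r)) := by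
    rw [← SetLike.mem_coe, ← PrimeSpectrum.localization_away_comap_range (Away ℬ (ψ (s.2 : A)))]
    rfl
  have hq' : (toBase (𝒜 := 𝒜) R a).base (Proj.awayι 𝒜 (s.2 : A) s.2.2 s.1.2 q) ∈
      PrimeSpectrum.basicOpen r ↔
      q ∈ PrimeSpectrum.basicOpen (fromZeroRingHom 𝒜 (.powers (s.2 : A)) (a.hom r)) := by
    rw [← Scheme.Hom.comp_apply, Proj.awayι_toSpecZero_assoc, ← Spec.map_comp]
    rfl
  rw [Set.mem_preimage, SetLike.mem_coe, hq', ← hq]
  constructor
  · rintro ⟨y, hy⟩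
    obtain ⟨z, hz, -⟩ := Scheme.exists_preimage_of_isPullback H q y hy.symm
    exact ⟨z, hz⟩
  · rintro ⟨z, rfl⟩
    refine ⟨Proj.awayι ℬ (ψ (s.2 : A)) (Graded.map_mem ψ s.2.2) s.1.2 z, ?_⟩
    rw [← Scheme.Hom.comp_apply, ← H.w, Scheme.Hom.comp_apply]

include hcomm hr hB in
/-- If `B = A[1/r]` with `r` from the base, `Proj ℬ` is the preimage of `D(r)` in `Proj 𝒜`. -/
theorem isPullback_map_of_away [IsOpenImmersion (Spec.map ρ)]
    (hρ : Set.range (Spec.map ρ).base = SetLike.coe (PrimeSpectrum.basicOpen r)) :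
    IsPullback (toBase (𝒜 := ℬ) R' b) (Proj.map ψ hψ) (Spec.map ρ) (toBase (𝒜 := 𝒜) R a) := by
  haveI := isOpenImmersion_map hψ hcomm r hr hB
  refine IsOpenImmersion.isPullback _ _ _ _ (map_toBase ψ hψ a b ρ hcomm) ?_
  apply SetLike.coe_injective
  simp only [Scheme.Hom.coe_opensRange, Scheme.Hom.coe_preimage]
  rw [range_map hψ hcomm r hr hB, hρ]

end away

end Groth.Agent.RelProjLib
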