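import Groth.Prelude.Def_RelProj2
import Groth.Agent.RelProjLib.ProjMap

/-!
Existence of the relative homogeneous spectrum of a quasi-coherent graded algebra.
-/

set_option autoImplicit false
set_option linter.style.haveILetI false
set_option backward.isDefEq.respectTransparency false

universe u

open CategoryTheory CategoryTheory.Limits AlgebraicGeometry TopologicalSpace Opposite
open scoped HomogeneousIdeal

noncomputable section

namespace Groth.Agent.RelProjLib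

variable {S : Scheme.{u}} (𝒮 : RelProj.QCGrAlg S)

open Scheme (AffineZariskiSite)

lemma map_congr {A B σ τ : Type u} [CommRing A] [SetLike σ A] [AddSubgroupClass σ A]
    [CommRing B] [SetLike τ B] [AddSubgroupClass τ B] {𝒜 : ℕ → σ} {ℬ : ℕ → τ} [GradedRing 𝒜]
    [GradedRing ℬ] {f g : 𝒜 →+*ᵍ ℬ} (e : f = g) (hf : ℬ₊ ≤ 𝒜₊.map f) (hg : ℬ₊ ≤ 𝒜₊.map g) :
    Proj.map f hf = Proj.map g hg := by
  subst e; rfl

lemma res_id {U : S.Opens} (hU : IsAffineOpen U) (i : U ≤ U) :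
    𝒮.res hU hU i = GradedRingHom.id (𝒮.deg U hU) :=
  GradedRingHom.ext fun x => by
    change (𝒮.presheaf.map (homOfLE i).op).hom x = x
    rw [show (homOfLE i).op = 𝟙 (op U) from rfl, 𝒮.presheaf.map_id]
    rfl

lemma res_comp {U V W : S.Opens} (hU : IsAffineOpen U) (hV : IsAffineOpen V)
    (hW : IsAffineOpen W) (i : V ≤ U) (j : W ≤ V) :
    (𝒮.res hV hW j).comp (𝒮.res hU hV i) = 𝒮.res hU hW (j.trans i) :=
  GradedRingHom.ext fun x => by
    change (𝒮.presheaf.map (homOfLE j).op).hom ((𝒮.presheaf.map (homOfLE i).op).hom x) = _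
    rw [← CommRingCat.comp_apply, ← Functor.map_comp]
    rfl

lemma irr {U V : S.AffineZariskiSite} (h : V ≤ U) :
    (𝒮.deg V.1 V.2)₊ ≤ ((𝒮.deg U.1 U.2)₊).map (𝒮.res U.2 V.2 (AffineZariskiSite.toOpens_mono h)) := by
  obtain ⟨r, hr⟩ := h
  obtain ⟨V, hV⟩ := V
  change S.basicOpen r = V at hr
  subst hr
  exact 𝒮.irrelevant_le_map U.1 U.2 r

/-- The functor `U ↦ Proj 𝒮(U)` on the affine opens of `S` and basic open inclusions. -/
def functor : S.AffineZariskiSite ⥤ Scheme.{u} where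
  obj U := Proj (𝒮.deg U.1 U.2)
  map {V U} h := Proj.map (𝒮.res U.2 V.2 (AffineZariskiSite.toOpens_mono h.le)) (irr 𝒮 h.le)
  map_id U := (map_congr (res_id 𝒮 U.2 _) _ (by simp)).trans Proj.map_id
  map_comp {W V U} h h' :=
    (map_congr (res_comp 𝒮 U.2 V.2 W.2 (AffineZariskiSite.toOpens_mono h'.le)
      (AffineZariskiSite.toOpens_mono h.le)).symm _ (HomogeneousIdeal.irrelevant_le_map_comp
        (irr 𝒮 h'.le) (irr 𝒮 h.le))).trans (Proj.map_comp _ _ _ _)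

lemma strZero_naturality {U V : S.Opens} (hU : IsAffineOpen U) (hV : IsAffineOpen V) (i : V ≤ U) :
    𝒮.strZero U hU ≫ zeroHom (𝒮.res hU hV i) =
      S.presheaf.map (homOfLE i).op ≫ 𝒮.strZero V hV := by
  ext x : 2
  refine Subtype.ext ?_
  change (𝒮.presheaf.map (homOfLE i).op).hom ((𝒮.str.app (op U)).hom x) =
    (𝒮.str.app (op V)).hom ((S.presheaf.map (homOfLE i).op).hom x)
  exact (ConcreteCategory.congr_hom (𝒮.str.naturality (homOfLE i).op) x).symm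

/-- The structure morphism `Proj 𝒮(U) ⟶ Spec O(U)`. -/
def affBase (U : S.Opens) (hU : IsAffineOpen U) :
    Proj (𝒮.deg U hU) ⟶ Spec Γ(S, U) :=
  toBase (𝒜 := 𝒮.deg U hU) _ (𝒮.strZero U hU)

lemma affBase_eq (U : S.Opens) (hU : IsAffineOpen U) :
    affBase 𝒮 U hU = Proj.toSpecZero (𝒮.deg U hU) ≫ Spec.map (𝒮.strZero U hU) := rfl

lemma isPullback_affBase {U V : S.AffineZariskiSite} (h : V ⟶ U) :
    IsPullback (affBase 𝒮 V.1 V.2) ((functor 𝒮).map h)
      (Spec.map (S.presheaf.map (homOfLE (AffineZariskiSite.toOpens_mono h.le)).op))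
      (affBase 𝒮 U.1 U.2) := by
  obtain ⟨r, hr⟩ := h.le
  obtain ⟨V, hV⟩ := V
  change S.basicOpen r = V at hr
  subst hr
  letI : Algebra Γ(S, U.1) Γ(S, S.basicOpen r) :=
    (S.presheaf.map (homOfLE (S.basicOpen_le r)).op).hom.toAlgebra
  haveI : IsLocalization.Away r Γ(S, S.basicOpen r) := U.2.isLocalization_basicOpen r
  haveI : IsOpenImmersion (Spec.map (S.presheaf.map (homOfLE (S.basicOpen_le r)).op)) :=
    IsOpenImmersion.of_isLocalization (S := Γ(S, S.basicOpen r)) r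
  exact isPullback_map_of_away (ψ := 𝒮.res U.2 hV (S.basicOpen_le r)) (irr 𝒮 h.le)
    (a := 𝒮.strZero U.1 U.2) (b := 𝒮.strZero _ hV)
    (ρ := S.presheaf.map (homOfLE (S.basicOpen_le r)).op)
    (strZero_naturality 𝒮 U.2 hV _) r
    (IsLocalization.Away.algebraMap_isUnit r) (𝒮.isQC U.1 U.2 r)
    (PrimeSpectrum.localization_away_comap_range Γ(S, S.basicOpen r) r)

/-- The natural map `Proj 𝒮(U) ⟶ U`. -/
def natTrans :
    functor 𝒮 ⟶ (AffineZariskiSite.directedCover S).functorOfLocallyDirected where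
  app U := affBase 𝒮 U.1 U.2 ≫ U.2.isoSpec.inv
  naturality {V U} h := by
    rw [← cancel_mono U.1.ι]
    change ((functor 𝒮).map h ≫ affBase 𝒮 U.1 U.2 ≫ U.2.isoSpec.inv) ≫ U.1.ι =
      ((affBase 𝒮 V.1 V.2 ≫ V.2.isoSpec.inv) ≫ S.homOfLE (AffineZariskiSite.toOpens_mono h.le)) ≫ U.1.ι
    simp only [Category.assoc, Scheme.homOfLE_ι, IsAffineOpen.isoSpec_inv_ι]
    refine ((isPullback_affBase 𝒮 h).w_assoc _).symm.trans ?_
    exact congrArg (affBase 𝒮 V.1 V.2 ≫ ·) (U.2.map_fromSpec V.2 (homOfLE (AffineZariskiSite.toOpens_mono h.le)).op)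

lemma equifibered : (natTrans 𝒮).Equifibered := by
  intro V U h
  have H := (isPullback_affBase 𝒮 h).flip.paste_vert (IsPullback.of_vert_isIso
    (fst := Spec.map (S.presheaf.map (homOfLE (AffineZariskiSite.toOpens_mono h.le)).op))
    (f := U.2.isoSpec.inv) (snd := V.2.isoSpec.inv)
    (g := S.homOfLE (AffineZariskiSite.toOpens_mono h.le)) ⟨by
      rw [← cancel_mono U.1.ι]
      simp only [Category.assoc, Scheme.homOfLE_ι, IsAffineOpen.isoSpec_inv_ι]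
      exact U.2.map_fromSpec V.2 _⟩)
  exact H

/-- The gluing datum of the relative Proj. -/
def glueData : (AffineZariskiSite.directedCover S).RelativeGluingData where
  functor := functor 𝒮
  natTrans := natTrans 𝒮
  equifibered := equifibered 𝒮

instance : ((glueData 𝒮).functor ⋙ Scheme.forget).IsLocallyDirected :=
  Scheme.Cover.RelativeGluingData.instIsLocallyDirectedI₀CompFunctorForgetOfIsThin ..

/-- The relative Proj of `𝒮`. -/
def P : Scheme.{u} := (glueData 𝒮).glued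

/-- Its structure morphism. -/
def p : P 𝒮 ⟶ S := (glueData 𝒮).toBase

/-- The chart immersion. -/
def emb₀ (U : S.Opens) (hU : IsAffineOpen U) : Proj (𝒮.deg U hU) ⟶ P 𝒮 :=
  (glueData 𝒮).cover.f ⟨U, hU⟩

instance (U : S.Opens) (hU : IsAffineOpen U) : IsOpenImmersion (emb₀ 𝒮 U hU) :=
  (glueData 𝒮).cover.map_prop _

@[reassoc]
lemma emb₀_p (U : S.Opens) (hU : IsAffineOpen U) :
    emb₀ 𝒮 U hU ≫ p 𝒮 = affBase 𝒮 U hU ≫ hU.fromSpec := by
  refine ((glueData 𝒮).ι_toBase ⟨U, hU⟩).trans ?_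
  change (affBase 𝒮 U hU ≫ hU.isoSpec.inv) ≫ U.ι = _
  rw [Category.assoc, IsAffineOpen.isoSpec_inv_ι]

lemma p_preimage (U : S.Opens) (hU : IsAffineOpen U) :
    p 𝒮 ⁻¹ᵁ U = (emb₀ 𝒮 U hU).opensRange := by
  simpa using! (glueData 𝒮).toBase_preimage_eq_opensRange_ι ⟨U, hU⟩

@[reassoc]
lemma map_emb₀ {U V : S.AffineZariskiSite} (h : V ⟶ U) :
    (functor 𝒮).map h ≫ emb₀ 𝒮 U.1 U.2 = emb₀ 𝒮 V.1 V.2 :=
  colimit.w (glueData 𝒮).functor h

/-- The charts of the relative Proj. -/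
def chart (U : S.Opens) (hU : IsAffineOpen U) :
    ((p 𝒮 ⁻¹ᵁ U : (P 𝒮).Opens) : Scheme.{u}) ≅ Proj (𝒮.deg U hU) :=
  IsOpenImmersion.isoOfRangeEq (p 𝒮 ⁻¹ᵁ U).ι (emb₀ 𝒮 U hU) (by
    rw [Scheme.Opens.range_ι, p_preimage 𝒮 U hU]; rfl)

@[reassoc]
lemma chart_hom_emb₀ (U : S.Opens) (hU : IsAffineOpen U) :
    (chart 𝒮 U hU).hom ≫ emb₀ 𝒮 U hU = (p 𝒮 ⁻¹ᵁ U).ι :=
  IsOpenImmersion.isoOfRangeEq_hom_fac ..

theorem isRelProj : RelProj.IsRelProj 𝒮 (p 𝒮) (chart 𝒮) where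
  chart_over U hU := by
    rw [← chart_hom_emb₀ 𝒮 U hU, Category.assoc, emb₀_p]
    simp only [affBase_eq, Category.assoc]
  chart_res U hU r := by
    rw [← cancel_mono (emb₀ 𝒮 U hU), Category.assoc, chart_hom_emb₀, Scheme.homOfLE_ι,
      Category.assoc]
    refine (chart_hom_emb₀ 𝒮 _ _).symm.trans (congrArg (_ ≫ ·) ?_)
    exact (map_emb₀ 𝒮 (U := ⟨U, hU⟩) (V := ⟨S.basicOpen r, hU.basicOpen r⟩)
      (homOfLE ⟨r, rfl⟩)).symm

theorem exists_isRelProj :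
    ∃ (P : Scheme.{u}) (p : P ⟶ S)
      (chart : ∀ (U : S.Opens) (hU : IsAffineOpen U),
        (((p ⁻¹ᵁ U : P.Opens) : Scheme.{u}) ≅ Proj (𝒮.deg U hU))),
      RelProj.IsRelProj 𝒮 p chart :=
  ⟨P 𝒮, p 𝒮, chart 𝒮, isRelProj 𝒮⟩

end Groth.Agent.RelProjLib
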