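import Groth.Agent.RelProjLib.Chart

/-!
Finiteness of `Proj` of a graded algebra generated in degree one with a finitely generated
degree-one part over the base.
-/

set_option autoImplicit false
set_option linter.style.haveILetI false
set_option backward.isDefEq.respectTransparency false

universe u

open CategoryTheory CategoryTheory.Limits AlgebraicGeometry HomogeneousLocalization
open scoped HomogeneousIdeal Pointwise

noncomputable section

namespace Groth.Agent.RelProjLib

variable {A σ : Type u} [CommRing A] [SetLike σ A] [AddSubgroupClass σ A]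
  {𝒜 : ℕ → σ} [GradedRing 𝒜] {R : CommRingCat.{u}} (a : R ⟶ CommRingCat.of (𝒜 0))

/-- The graded pieces as `R`-submodules. -/
def degMod (n : ℕ) :
    letI := ((SetLike.GradeZero.subring 𝒜).subtype.comp a.hom).toAlgebra
    Submodule R A :=
  letI := ((SetLike.GradeZero.subring 𝒜).subtype.comp a.hom).toAlgebra
  { carrier := (𝒜 n : Set A)
    add_mem' := fun hx hy => add_mem hx hy
    zero_mem' := zero_mem (𝒜 n)
    smul_mem' := fun r x hx => by
      rw [Algebra.smul_def]
      exact zero_add n ▸ SetLike.mul_mem_graded (a.hom r).2 hx }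

variable (hgen : Subring.closure ((𝒜 0 : Set A) ∪ (𝒜 1 : Set A)) = ⊤)
include hgen

lemma deg_le_pow (n : ℕ) (hn : 0 < n) :
    letI := ((SetLike.GradeZero.subring 𝒜).subtype.comp a.hom).toAlgebra
    ∀ x ∈ 𝒜 n, x ∈ (degMod a 1) ^ n := by
  classical
  letI := ((SetLike.GradeZero.subring 𝒜).subtype.comp a.hom).toAlgebra
  set M := degMod a 1 with hM
  have hle : ∀ k, M ^ k ≤ degMod a k := by
    intro k
    induction k with
    | zero =>
      rw [pow_zero, Submodule.one_eq_range]
      rintro _ ⟨r, rfl⟩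
      exact (a.hom r).2
    | succ k ih =>
      rw [pow_succ, Submodule.mul_le]
      exact fun x hx y hy => SetLike.mul_mem_graded (A := 𝒜) (ih hx) hy
  let Q : Submodule R A := ⨆ k : ℕ, M ^ (k + 1)
  have hQM : ∀ {y}, y ∈ M → y ∈ Q := fun hy =>
    (le_iSup (fun k : ℕ => M ^ (k + 1)) 0) (by simpa using hy)
  have hmul : ∀ x : A, ∀ y ∈ Q, x * y ∈ Q := by
    let D : Subring A :=
      { carrier := {x | ∀ y ∈ Q, x * y ∈ Q}
        one_mem' := fun y hy => by simpa using hy
        mul_mem' := fun {p q} hp hq y hy => by rw [mul_assoc]; exact hp _ (hq _ hy)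
        add_mem' := fun {p q} hp hq y hy => by rw [add_mul]; exact add_mem (hp _ hy) (hq _ hy)
        zero_mem' := fun y _ => by simp
        neg_mem' := fun {p} hp y hy => by rw [neg_mul]; exact neg_mem (hp _ hy) }
    suffices h : D = ⊤ by intro x; exact (h ▸ Subring.mem_top x : x ∈ D)
    rw [eq_top_iff, ← hgen, Subring.closure_le]
    intro x hx y hy
    induction hy using Submodule.iSup_induction' with
    | zero => simp
    | add u v _ _ hu hv => rw [mul_add]; exact add_mem hu hv
    | mem k y hy =>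
      rcases hx with hx | hx
      · refine (le_iSup (fun k : ℕ => M ^ (k + 1)) k) ?_
        rw [pow_succ'] at hy ⊢
        induction hy using Submodule.mul_induction_on' with
        | mem_mul_mem p hp q hq =>
          rw [← mul_assoc]
          exact Submodule.mul_mem_mul (by
            have := SetLike.mul_mem_graded (A := 𝒜) hx hp
            simpa [hM, degMod] using this) hq
        | add u _ v _ hu hv => rw [mul_add]; exact add_mem hu hv
      · refine (le_iSup (fun k : ℕ => M ^ (k + 1)) (k + 1)) ?_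
        rw [pow_succ' M (k + 1)]
        exact Submodule.mul_mem_mul hx hy
  have hdec : ∀ y ∈ Q, ∀ m, (DirectSum.decompose 𝒜 y m : A) ∈ M ^ m := by
    intro y hy m
    induction hy using Submodule.iSup_induction' with
    | zero => simp
    | add u v _ _ hu hv => rw [DirectSum.decompose_add]; exact add_mem hu hv
    | mem k y hy =>
      rcases eq_or_ne (k + 1) m with rfl | hne
      · rw [DirectSum.decompose_of_mem_same 𝒜 (hle _ hy)]; exact hy
      · rw [DirectSum.decompose_of_mem_ne 𝒜 (hle _ hy) hne]; exact zero_mem _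
  let D' : Subring A :=
    { carrier := {x | ∀ m, 0 < m → (DirectSum.decompose 𝒜 x m : A) ∈ Q}
      one_mem' := fun m hm => by
        rw [DirectSum.decompose_of_mem_ne 𝒜 (SetLike.one_mem_graded 𝒜) hm.ne]; exact zero_mem _
      zero_mem' := fun m _ => by simp
      add_mem' := fun {p q} hp hq m hm => by
        rw [DirectSum.decompose_add]; exact add_mem (hp m hm) (hq m hm)
      neg_mem' := fun {p} hp m hm => by
        rw [DirectSum.decompose_neg]; exact neg_mem (hp m hm)
      mul_mem' := fun {p q} hp hq m hm => by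
        rw [DirectSum.decompose_mul, DirectSum.coe_mul_apply]
        refine Submodule.sum_mem _ fun ij hij => ?_
        rw [Finset.mem_filter] at hij
        rcases Nat.eq_zero_or_pos ij.2 with h0 | h0
        · rw [mul_comm]; exact hmul _ _ (hp _ (by omega))
        · exact hmul _ _ (hq _ h0) }
  intro x hx
  have hD : D' = ⊤ := by
    rw [eq_top_iff, ← hgen, Subring.closure_le]
    rintro y (hy | hy) m hm
    · rw [DirectSum.decompose_of_mem_ne 𝒜 hy hm.ne]; exact zero_mem _
    · rcases eq_or_ne 1 m with rfl | hne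
      · rw [DirectSum.decompose_of_mem_same 𝒜 hy]; exact hQM hy
      · rw [DirectSum.decompose_of_mem_ne 𝒜 hy hne]; exact zero_mem _
  have hxQ : x ∈ Q := by
    have := (hD ▸ Subring.mem_top x : x ∈ D') n hn
    rwa [DirectSum.decompose_of_mem_same 𝒜 hx] at this
  have := hdec x hxQ n
  rwa [DirectSum.decompose_of_mem_same 𝒜 hx] at this

variable (T : Finset A) (hT : ∀ t ∈ T, t ∈ 𝒜 1)
  (hT' : ∀ x ∈ 𝒜 1, ∃ c : A → R, x = ∑ t ∈ T, ((a.hom (c t) : 𝒜 0) : A) * t)
include hT hT'

lemma finiteType_away {t : A} (ht : t ∈ 𝒜 1) :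
    ((fromZeroRingHom 𝒜 (.powers t)).comp a.hom).FiniteType := by
  classical
  letI := ((SetLike.GradeZero.subring 𝒜).subtype.comp a.hom).toAlgebra
  letI : Algebra R (Away 𝒜 t) := ((fromZeroRingHom 𝒜 (.powers t)).comp a.hom).toAlgebra
  show Algebra.FiniteType R (Away 𝒜 t)
  let g : T → Away 𝒜 t := fun s => Away.mk 𝒜 ht 1 s (by simpa using hT s s.2)
  refine ⟨⟨Finset.univ.image g, ?_⟩⟩
  rw [Finset.coe_image, Finset.coe_univ, Set.image_univ]
  set G := Algebra.adjoin R (Set.range g) with hG
  have hone : ∀ x (hx : x ∈ 𝒜 1), ∃ z ∈ G, z.val = (Localization.mk x ⟨t ^ 1, 1, rfl⟩ : Localization (Submonoid.powers t)) := by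
    intro x hx
    obtain ⟨c, rfl⟩ := hT' x hx
    refine ⟨∑ s ∈ T.attach, c s • g s,
      Subalgebra.sum_mem _ fun s _ => Subalgebra.smul_mem _ (Algebra.subset_adjoin (Set.mem_range_self (f := g) s)) _, ?_⟩
    rw [← T.sum_attach (fun s => ((a.hom (c s) : 𝒜 0) : A) * s), Localization.mk_sum,
      ← HomogeneousLocalization.algebraMap_apply, map_sum]
    refine Finset.sum_congr rfl fun s _ => ?_
    rw [HomogeneousLocalization.algebraMap_apply, Algebra.smul_def, val_mul, RingHom.algebraMap_toAlgebra,
      RingHom.comp_apply, val_fromZero, Away.val_mk, ← Localization.mk_one_eq_algebraMap,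
      Localization.mk_mul, one_mul]
  have hpow : ∀ m x, x ∈ (degMod a 1) ^ m →
      ∃ z ∈ G, z.val = (Localization.mk x ⟨t ^ m, m, rfl⟩ : Localization (Submonoid.powers t)) := by
    intro m
    induction m with
    | zero =>
      intro x hx
      rw [pow_zero, Submodule.one_eq_range] at hx
      obtain ⟨r, rfl⟩ := hx
      refine ⟨algebraMap R (Away 𝒜 t) r, Subalgebra.algebraMap_mem _ r, ?_⟩
      rw [RingHom.algebraMap_toAlgebra, RingHom.comp_apply, val_fromZero,
        ← Localization.mk_one_eq_algebraMap]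
      congr 1
      exact Subtype.ext (pow_zero t).symm
    | succ m ih =>
      intro x hx
      rw [pow_succ] at hx
      induction hx using Submodule.mul_induction_on' with
      | mem_mul_mem p hp q hq =>
        obtain ⟨z, hz, hzv⟩ := ih p hp
        obtain ⟨w, hw, hwv⟩ := hone q hq
        refine ⟨z * w, mul_mem hz hw, ?_⟩
        rw [val_mul, hzv, hwv, Localization.mk_mul]
        congr 1
        exact Subtype.ext (by simp [pow_succ])
      | add p _ q _ hp hq =>
        obtain ⟨z, hz, hzv⟩ := hp
        obtain ⟨w, hw, hwv⟩ := hq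
        refine ⟨z + w, add_mem hz hw, ?_⟩
        rw [val_add, hzv, hwv, Localization.add_mk_self]
  rw [eq_top_iff]
  intro z _
  obtain ⟨n, x, hx, rfl⟩ := Away.mk_surjective 𝒜 ht z
  have hx' : x * t ∈ 𝒜 (n + 1) := SetLike.mul_mem_graded (by simpa using hx) ht
  obtain ⟨w, hw, hwv⟩ := hpow (n + 1) (x * t) (deg_le_pow a hgen (n + 1) n.succ_pos _ hx')
  convert hw
  refine val_injective _ ?_
  rw [Away.val_mk, hwv, Localization.mk_eq_mk_iff, Localization.r_iff_exists]
  exact ⟨1, by simp [pow_succ]; ring⟩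

lemma iSup_basicOpen_top : ⨆ t : T, Proj.basicOpen 𝒜 (t : A) = ⊤ := by
  classical
  letI := ((SetLike.GradeZero.subring 𝒜).subtype.comp a.hom).toAlgebra
  refine eq_top_iff.mpr fun y _ => ?_
  have hsub : ∀ n, 1 ≤ n → (𝒜 n : Set A) ⊆ Ideal.span (Set.range fun t : T => (t : A)) := by
    intro n hn x hx
    have h1 : (degMod a 1 : Set A) ⊆ Ideal.span (Set.range fun t : T => (t : A)) := by
      intro x hx
      obtain ⟨c, rfl⟩ := hT' x hx
      exact Ideal.sum_mem _ fun t ht => Ideal.mul_mem_left _ _ (Ideal.subset_span ⟨⟨t, ht⟩, rfl⟩)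
    have := deg_le_pow a hgen n hn x hx
    obtain ⟨m, rfl⟩ := Nat.exists_eq_succ_of_ne_zero (by omega : n ≠ 0)
    rw [pow_succ] at this
    clear hx
    induction this using Submodule.mul_induction_on' with
    | mem_mul_mem p hp q hq => exact Ideal.mul_mem_left _ _ (h1 hq)
    | add p _ q _ hp hq => exact add_mem hp hq
  obtain ⟨t, ht⟩ := exists_not_mem_of_span 𝒜 (fun t : T => (t : A)) 1 hsub y
  exact TopologicalSpace.Opens.mem_iSup.mpr ⟨t, ht⟩

theorem locallyOfFiniteType_toBase :
    LocallyOfFiniteType (toBase (𝒜 := 𝒜) R a) := by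
  rw [IsZariskiLocalAtSource.iff_of_iSup_eq_top (P := @LocallyOfFiniteType) _
    (iSup_basicOpen_top a hgen T hT hT')]
  intro t
  rw [← MorphismProperty.cancel_left_of_respectsIso (P := @LocallyOfFiniteType)
    (Proj.basicOpenIsoSpec 𝒜 (t : A) (hT _ t.2) Nat.one_pos).inv, ← Category.assoc,
    Proj.basicOpenIsoSpec_inv_ι, Proj.awayι_toSpecZero_assoc, ← Spec.map_comp,
    HasRingHomProperty.Spec_iff (P := @LocallyOfFiniteType)]
  exact finiteType_away a hgen T hT hT' (hT _ t.2)

theorem quasiCompact_toBase : QuasiCompact (toBase (𝒜 := 𝒜) R a) := by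
  rw [HasAffineProperty.iff_of_isAffine (P := @QuasiCompact)]
  have H := congr($(iSup_basicOpen_top a hgen T hT hT').1)
  simp only [TopologicalSpace.Opens.iSup_mk, TopologicalSpace.Opens.carrier_eq_coe,
    TopologicalSpace.Opens.coe_mk, TopologicalSpace.Opens.coe_top] at H
  rw [← isCompact_univ_iff, ← H]
  exact isCompact_iUnion fun t =>
    (ProjLib.isAffineOpen_basicOpen 𝒜 (hT _ t.2) Nat.one_pos).isCompact

end Groth.Agent.RelProjLib
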