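import Groth.Prelude.Def_RelProj4
import Groth.Agent.RelProjLib.Chart

/-!
`Proj(φ)` (as `IsProjQMap`) for a homomorphism of graded algebras on one base that is surjective or
bijective in large degrees.
-/

set_option autoImplicit false
set_option linter.style.haveILetI false
set_option backward.isDefEq.respectTransparency false

universe u

open CategoryTheory CategoryTheory.Limits AlgebraicGeometry TopologicalSpace Opposite
  HomogeneousLocalization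
open scoped HomogeneousIdeal

noncomputable section

namespace Groth.Agent.RelProjLib

section ring

variable {A σ : Type u} [CommRing A] [SetLike σ A] [AddSubgroupClass σ A]
  {𝒜 : ℕ → σ} [GradedRing 𝒜]
  {B τ : Type u} [CommRing B] [SetLike τ B] [AddSubgroupClass τ B]
  {ℬ : ℕ → τ} [GradedRing ℬ] (φ : 𝒜 →+*ᵍ ℬ) (N : ℕ)

lemma away_map_surjective_of_large
    (hsurj : ∀ k, N ≤ k → ∀ y ∈ ℬ k, ∃ x ∈ 𝒜 k, φ x = y) {f : A} {d : ℕ} (hf : f ∈ 𝒜 d)
    (hd : 0 < d) : Function.Surjective (Away.map φ f : Away 𝒜 f →+* Away ℬ (φ f)) := by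
  intro z
  obtain ⟨n, y, hy, rfl⟩ := Away.mk_surjective ℬ (Graded.map_mem φ hf) z
  have hy' : φ (f ^ N) * y ∈ ℬ ((N + n) • d) := by
    rw [add_smul]
    exact SetLike.mul_mem_graded (Graded.map_mem φ (SetLike.pow_mem_graded N hf)) hy
  obtain ⟨x, hx, hxy⟩ := hsurj _ (by rw [smul_eq_mul]; nlinarith) _ hy'
  refine ⟨Away.mk 𝒜 hf (N + n) x hx, val_injective _ ?_⟩
  rw [Away.map_mk, Away.val_mk, Away.val_mk, hxy, Localization.mk_eq_mk_iff, Localization.r_iff_exists]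
  exact ⟨1, by simp [pow_add, map_pow]; ring⟩

lemma away_map_injective_of_large (hinj : ∀ k, N ≤ k → ∀ x ∈ 𝒜 k, φ x = 0 → x = 0)
    {f : A} {d : ℕ} (hf : f ∈ 𝒜 d) (hd : 0 < d) :
    Function.Injective (Away.map φ f : Away 𝒜 f →+* Away ℬ (φ f)) := by
  rw [injective_iff_map_eq_zero]
  intro z hz
  obtain ⟨n, a, ha, rfl⟩ := Away.mk_surjective 𝒜 hf z
  obtain ⟨k, hk⟩ := (ProjLib.away_map_mk_eq_zero_iff 𝒜 φ hf n a ha).mp hz
  have hmem : f ^ (N + k) * a ∈ 𝒜 ((N + k) • d + n • d) :=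
    SetLike.mul_mem_graded (SetLike.pow_mem_graded _ hf) ha
  have h0 : f ^ (N + k) * a = 0 := hinj _ (by simp only [smul_eq_mul]; nlinarith) _ hmem (by
    rw [pow_add, mul_assoc, map_mul, hk, mul_zero])
  refine val_injective _ ?_
  rw [Away.val_mk, val_zero, Localization.mk_eq_mk', IsLocalization.mk'_eq_zero_iff]
  exact ⟨⟨_, N + k, rfl⟩, h0⟩

lemma exists_map_not_mem_of_large
    (hsurj : ∀ k, N ≤ k → ∀ y ∈ ℬ k, ∃ x ∈ 𝒜 k, φ x = y) (y : Proj ℬ) :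
    ∃ (d : ℕ) (f : A), 0 < d ∧ f ∈ 𝒜 d ∧ y ∈ Proj.basicOpen ℬ (φ f) := by
  by_contra! hno
  refine y.not_irrelevant_le ((HomogeneousIdeal.toIdeal_irrelevant_le _).mpr fun d hd g hg => ?_)
  obtain ⟨x, hx, hxg⟩ := hsurj ((N + 1) • d) (by rw [smul_eq_mul]; nlinarith) _
    (SetLike.pow_mem_graded (N + 1) hg)
  exact y.isPrime.mem_of_pow_mem (N + 1) (hxg ▸ not_not.mp (hno _ x (by
    rw [smul_eq_mul]; positivity) hx))

lemma away_map_isLocalizationElem {f g : A} {d e : ℕ} (hf : f ∈ 𝒜 d) (hg : g ∈ 𝒜 e) :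
    Away.map φ g (Away.isLocalizationElem hg hf) =
      Away.isLocalizationElem (Graded.map_mem φ hg) (Graded.map_mem φ hf) := by
  refine val_injective _ ?_
  simp only [Away.isLocalizationElem, Away.map_mk, Away.val_mk, map_pow]

end ring

variable {S PA PB : Scheme.{u}} {𝒜 ℬ : RelProj.QCGrAlg S}
  (φ : 𝒜.toQCAlg ⟶ ℬ.toQCAlg) (hφ : RelProj.IsGradedHom φ)
  (pA : PA ⟶ S)
  (chA : ∀ (U : S.Opens) (hU : IsAffineOpen U), ((pA ⁻¹ᵁ U : PA.Opens) : Scheme.{u}) ≅ Proj (𝒜.deg U hU))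
  (pB : PB ⟶ S)
  (chB : ∀ (U : S.Opens) (hU : IsAffineOpen U), ((pB ⁻¹ᵁ U : PB.Opens) : Scheme.{u}) ≅ Proj (ℬ.deg U hU))

/-- `φ` over an affine, as a graded hom in the `QGrHom` normal form. -/
abbrev gAt (U : S.Opens) (hU : IsAffineOpen U) : 𝒜.deg U hU →+*ᵍ ℬ.deg U hU :=
  (RelProj.QGrHom.ofHom φ hφ).gradedAt U hU U hU le_rfl

lemma gAt_apply (U : S.Opens) (hU : IsAffineOpen U) (x : 𝒜.presheaf.obj (op U)) :
    gAt φ hφ U hU x = (φ.hom.app (op U)).hom x := by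
  change (ℬ.presheaf.map (homOfLE (le_refl U)).op).hom ((φ.hom.app (op U)).hom x) = _
  rw [show (homOfLE (le_refl U)).op = 𝟙 (op U) from rfl, ℬ.presheaf.map_id]
  rfl

variable {φ hφ} {N : ℕ}
  (hsurj : ∀ k, N ≤ k → ∀ (U : S.Opens) (hU : IsAffineOpen U), ∀ y ∈ ℬ.deg U hU k,
    ∃ x ∈ 𝒜.deg U hU k, (φ.hom.app (op U)).hom x = y)

include hsurj

lemma gAt_surj (U : S.Opens) (hU : IsAffineOpen U) :
    ∀ k, N ≤ k → ∀ y ∈ ℬ.deg U hU k, ∃ x ∈ 𝒜.deg U hU k, gAt φ hφ U hU x = y := fun k hk y hy => by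
  obtain ⟨x, hx, hxy⟩ := hsurj k hk U hU y hy
  exact ⟨x, hx, (gAt_apply φ hφ U hU x).trans hxy⟩

theorem domQ_eq_top :
    RelProj.domQ (RelProj.QGrHom.ofHom φ hφ) pB chB = ⊤ := by
  refine eq_top_iff.mpr fun z _ => ?_
  obtain ⟨U, hU⟩ := Opens.mem_iSup.mp
    ((iSup_opensRange_emb (𝒮 := ℬ) (q := pB) (ch := chB)).ge (Set.mem_univ z))
  obtain ⟨y, rfl⟩ := hU
  obtain ⟨d, f, hd, hf, hy⟩ := exists_map_not_mem_of_large (gAt φ hφ U.1 U.2) N
    (gAt_surj hsurj U.1 U.2) y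
  refine Opens.mem_iSup.mpr ⟨⟨(U, U), le_refl U.1⟩, ?_⟩
  exact ⟨y, (RelCone.mem_domOpen _ _).mpr
    ⟨f, HomogeneousIdeal.mem_irrelevant_of_mem _ hd hf, hy⟩, rfl⟩

variable (hA : RelProj.IsRelProj 𝒜 pA chA) (hB : RelProj.IsRelProj ℬ pB chB)
include hA hB

variable {pA chA pB chB}

omit hsurj hA hB in
lemma awayEmb_eq (U : S.Opens) (hU : IsAffineOpen U) {d : ℕ} (hd : 0 < d)
    (f : 𝒜.presheaf.obj (op U)) (hf : f ∈ 𝒜.deg U hU d) :
    RelProj.awayEmb (RelProj.QGrHom.ofHom φ hφ) pB chB U hU U hU le_rfl hd f hf =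
      Proj.awayι (ℬ.deg U hU) (gAt φ hφ U hU f) (Graded.map_mem _ hf) hd ≫ RelProj.emb pB chB U hU :=
  rfl

/-- `Proj(φ)` is over the base, and has a local-at-target property as soon as all `Away.map φ f` do. -/
theorem prop_of_qmap (Q : MorphismProperty Scheme.{u}) [IsZariskiLocalAtTarget Q]
    {h : PB ⟶ PA} (hh : RelProj.IsProjQMap (RelProj.QGrHom.ofHom φ hφ) pA chA pB chB h)
    (H : ∀ (U : S.Opens) (hU : IsAffineOpen U) (d : ℕ) (_ : 0 < d)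
      (f : 𝒜.presheaf.obj (op U)) (_ : f ∈ 𝒜.deg U hU d),
      Q (Spec.map (CommRingCat.ofHom (Away.map (gAt φ hφ U hU) f)))) : Q h := by
  have hloc : ∀ (z : PB) (U : S.Opens) (hU : IsAffineOpen U), pB z ∈ U →
      ∃ (d : ℕ) (hd : 0 < d) (f : 𝒜.presheaf.obj (op U)) (hf : f ∈ 𝒜.deg U hU d) (q : _),
        RelProj.awayEmb (RelProj.QGrHom.ofHom φ hφ) pB chB U hU U hU le_rfl hd f hf q = z := by
    intro z U hU hz
    obtain ⟨y, rfl⟩ : z ∈ (RelProj.emb pB chB U hU).opensRange := by rw [opensRange_emb]; exact hz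
    obtain ⟨d, f, hd, hf, hy⟩ := exists_map_not_mem_of_large (gAt φ hφ U hU) N
      (gAt_surj hsurj U hU) y
    obtain ⟨q, rfl⟩ : y ∈ (Proj.awayι (ℬ.deg U hU) (gAt φ hφ U hU f) (Graded.map_mem _ hf) hd).opensRange := by
      rw [Proj.opensRange_awayι]; exact hy
    exact ⟨d, hd, f, hf, q, rfl⟩
  have hzero : ∀ (U : S.Opens) (hU : IsAffineOpen U),
      𝒜.strZero U hU ≫ zeroHom (gAt φ hφ U hU) = ℬ.strZero U hU := fun U hU => by
    ext x : 2
    refine Subtype.ext ((gAt_apply φ hφ U hU _).trans ?_)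
    exact ConcreteCategory.congr_hom (NatTrans.congr_app φ.comm (op U)) x
  have hover : ∀ z, pA (h z) = pB z := by
    intro z
    obtain ⟨U, hU⟩ := Opens.mem_iSup.mp ((iSup_affineOpens_eq_top S).ge (Set.mem_univ (pB z)))
    obtain ⟨d, hd, f, hf, q, rfl⟩ := hloc z U.1 U.2 hU
    rw [← Scheme.Hom.comp_apply, ← Scheme.Hom.comp_apply, ← Scheme.Hom.comp_apply]
    refine congrArg (fun k : _ ⟶ S => k q) ?_
    rw [← Category.assoc, hh.2 U.1 U.2 U.1 U.2 le_rfl d hd f hf, awayEmb_eq]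
    simp only [Category.assoc]
    rw [emb_p hA, emb_p hB, affBase_eq, affBase_eq, Category.assoc, Category.assoc,
      Proj.awayι_toSpecZero_assoc, Proj.awayι_toSpecZero_assoc, ← Spec.map_comp_assoc,
      ← Spec.map_comp_assoc, ← Spec.map_comp_assoc, ← hzero U.1 U.2, Category.assoc]
    congr 2
    ext x : 2
    exact away_map_fromZero (gAt φ hφ U.1 U.2) _ _
  let ι := Σ U : S.affineOpens, Σ i : PNat, 𝒜.deg U.1 U.2 i
  let 𝒰 : PA.OpenCover := Scheme.Cover.mkOfCovers ι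
    (fun s => Spec (.of (Away (𝒜.deg s.1.1 s.1.2) (s.2.2 : 𝒜.presheaf.obj (op s.1.1)))))
    (fun s => Proj.awayι (𝒜.deg s.1.1 s.1.2) (s.2.2 : 𝒜.presheaf.obj (op s.1.1)) s.2.2.2 s.2.1.2 ≫ RelProj.emb pA chA s.1.1 s.1.2)
    (fun z => by
      obtain ⟨U, hU⟩ := Opens.mem_iSup.mp
        ((iSup_opensRange_emb (𝒮 := 𝒜) (q := pA) (ch := chA)).ge (Set.mem_univ z))
      obtain ⟨y, rfl⟩ := hU
      obtain ⟨s, hs⟩ := (Proj.affineOpenCover (𝒜.deg U.1 U.2)).openCover.exists_eq y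
      obtain ⟨q, hq⟩ := hs
      exact ⟨⟨U, s⟩, q, by rw [Scheme.Hom.comp_apply]; exact congrArg _ hq⟩)
    (fun s => inferInstance)
  refine IsZariskiLocalAtTarget.of_openCover 𝒰 fun s => ?_
  obtain ⟨U, i, f, hf⟩ := s
  have Hpb : IsPullback (Spec.map (CommRingCat.ofHom (Away.map (gAt φ hφ U.1 U.2) f)))
      (RelProj.awayEmb (RelProj.QGrHom.ofHom φ hφ) pB chB U.1 U.2 U.1 U.2 le_rfl i.2 f hf)
      (Proj.awayι (𝒜.deg U.1 U.2) f hf i.2 ≫ RelProj.emb pA chA U.1 U.2) h := by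
    haveI : IsOpenImmersion
        (RelProj.awayEmb (RelProj.QGrHom.ofHom φ hφ) pB chB U.1 U.2 U.1 U.2 le_rfl i.2 f hf) := by
      rw [awayEmb_eq]; infer_instance
    refine IsOpenImmersion.isPullback _ _ _ _ (hh.2 U.1 U.2 U.1 U.2 le_rfl i i.2 f hf) ?_
    refine le_antisymm ?_ ?_
    · intro z hz
      obtain ⟨a, ha⟩ := hz
      have hzU : pB z ∈ U.1 := by
        have : h z ∈ (RelProj.emb pA chA U.1 U.2).opensRange := ⟨_, ha⟩
        rw [opensRange_emb] at this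
        exact hover z ▸ this
      obtain ⟨e, he, g, hg, q, rfl⟩ := hloc z U.1 U.2 hzU
      rw [← Scheme.Hom.comp_apply _ h, hh.2 U.1 U.2 U.1 U.2 le_rfl e he g hg, Scheme.Hom.comp_apply,
        Scheme.Hom.comp_apply, Scheme.Hom.comp_apply] at ha
      have hmem : Spec.map (CommRingCat.ofHom (Away.map (gAt φ hφ U.1 U.2) g)) q ∈
          Proj.awayι (𝒜.deg U.1 U.2) g hg he ⁻¹ᵁ Proj.basicOpen (𝒜.deg U.1 U.2) f := by
        show Proj.awayι (𝒜.deg U.1 U.2) g hg he (Spec.map (CommRingCat.ofHom (Away.map (gAt φ hφ U.1 U.2) g)) q) ∈ Proj.basicOpen (𝒜.deg U.1 U.2) f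
        rw [← (RelProj.emb pA chA U.1 U.2).isOpenEmbedding.injective ha,
          ← Proj.opensRange_awayι _ f hf i.2]
        exact ⟨a, rfl⟩
      rw [Proj.awayι_preimage_basicOpen (𝒜.deg U.1 U.2) hg he hf i.2] at hmem
      have hmem' : q ∈ Proj.awayι (ℬ.deg U.1 U.2) (gAt φ hφ U.1 U.2 g) (Graded.map_mem _ hg) he ⁻¹ᵁ
          Proj.basicOpen (ℬ.deg U.1 U.2) (gAt φ hφ U.1 U.2 f) := by
        rw [Proj.awayι_preimage_basicOpen (ℬ.deg U.1 U.2) (Graded.map_mem _ hg) he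
          (Graded.map_mem _ hf) i.2, ← away_map_isLocalizationElem]
        exact hmem
      rw [← Proj.opensRange_awayι _ _ (Graded.map_mem _ hf) i.2] at hmem'
      obtain ⟨c, hc⟩ := hmem'
      exact ⟨c, congrArg (RelProj.emb pB chB U.1 U.2) hc⟩
    · rintro z ⟨c, rfl⟩
      refine ⟨Spec.map (CommRingCat.ofHom (Away.map (gAt φ hφ U.1 U.2) f)) c, ?_⟩
      rw [← Scheme.Hom.comp_apply, ← Scheme.Hom.comp_apply, ← Category.assoc]
      exact congrArg (fun k : _ ⟶ PA => k c) (hh.2 U.1 U.2 U.1 U.2 le_rfl i i.2 f hf).symm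
  show Q (pullback.snd _ _)
  erw [← Hpb.flip.isoPullback_inv_snd]
  exact (Q.cancel_left_of_respectsIso _ _).mpr (H U.1 U.2 i i.2 f hf)

end Groth.Agent.RelProjLib
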