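import Groth.Agent.RelProjLib.ProjMap

/-!
Base change of `Proj`: `Proj (𝒜 ⊗_R R') = Proj 𝒜 ×_{Spec R} Spec R'`.
-/

set_option autoImplicit false
set_option linter.style.haveILetI false
set_option backward.isDefEq.respectTransparency false

universe u

open CategoryTheory CategoryTheory.Limits AlgebraicGeometry HomogeneousLocalization TensorProduct
open scoped HomogeneousIdeal

noncomputable section

namespace Groth.Agent.RelProjLib

/-- A commutative square of schemes is cartesian if it is so on compatible open charts. -/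
theorem isPullback_of_charts {P' P Y' Y : Scheme.{u}} {g : P' ⟶ P} {p' : P' ⟶ Y'} {p : P ⟶ Y}
    {ψ : Y' ⟶ Y} (w : g ≫ p = p' ≫ ψ) {ι : Type u}
    (Pc Qc Vc : ι → Scheme.{u}) (j : ∀ i, Pc i ⟶ P') (κ : ∀ i, Qc i ⟶ P) (v : ∀ i, Vc i ⟶ Y')
    [∀ i, IsOpenImmersion (j i)] [∀ i, IsOpenImmersion (κ i)] [∀ i, IsOpenImmersion (v i)]
    (f : ∀ i, Pc i ⟶ Qc i) (b : ∀ i, Pc i ⟶ Vc i)
    (hf : ∀ i, f i ≫ κ i = j i ≫ g) (hb : ∀ i, b i ≫ v i = j i ≫ p')
    (hpb : ∀ i, IsPullback (f i) (b i) (κ i ≫ p) (v i ≫ ψ))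
    (hrange : ∀ i, g ⁻¹ᵁ (κ i).opensRange ⊓ p' ⁻¹ᵁ (v i).opensRange ≤ (j i).opensRange)
    (hcov : ∀ (x : P) (y : Y'), p x = ψ y →
      ∃ i, x ∈ (κ i).opensRange ∧ y ∈ (v i).opensRange) :
    IsPullback g p' p ψ := by
  let l : P' ⟶ pullback p ψ := pullback.lift g p' w
  have hl₁ : l ≫ pullback.fst p ψ = g := pullback.lift_fst ..
  have hl₂ : l ≫ pullback.snd p ψ = p' := pullback.lift_snd ..
  let φ : ∀ i, Pc i ⟶ pullback p ψ := fun i => j i ≫ l
  have hφ : ∀ i, φ i = (hpb i).isoPullback.hom ≫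
      pullback.map (κ i ≫ p) (v i ≫ ψ) p ψ (κ i) (v i) (𝟙 Y) (by simp) (by simp) := fun i => by
    apply pullback.hom_ext
    · simp [φ, hl₁, hf]
    · simp [φ, hl₂, hb]
  haveI hφo : ∀ i, IsOpenImmersion (φ i) := fun i => by rw [hφ i]; infer_instance
  have hφr : ∀ i, (φ i).opensRange =
      pullback.fst p ψ ⁻¹ᵁ (κ i).opensRange ⊓ pullback.snd p ψ ⁻¹ᵁ (v i).opensRange := fun i => by
    apply SetLike.coe_injective
    simp only [Scheme.Hom.coe_opensRange, TopologicalSpace.Opens.coe_inf, Scheme.Hom.coe_preimage]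
    rw [hφ i, Scheme.Hom.comp_base, TopCat.coe_comp, Set.range_comp,
      Set.range_eq_univ.mpr (by exact (hpb i).isoPullback.hom.homeomorph.surjective),
      Set.image_univ, Scheme.Pullback.range_map]
  let 𝒰 : (pullback p ψ).OpenCover := Scheme.Cover.mkOfCovers ι Pc φ
    (fun z => by
      obtain ⟨i, h₁, h₂⟩ := hcov (pullback.fst p ψ z) (pullback.snd p ψ z) (by
        rw [← Scheme.Hom.comp_apply, ← Scheme.Hom.comp_apply, pullback.condition])
      have : z ∈ (φ i).opensRange := by rw [hφr i]; exact ⟨h₁, h₂⟩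
      exact ⟨i, this⟩) hφo
  haveI : IsIso l := by
    refine (IsZariskiLocalAtTarget.iff_of_openCover
      (P := MorphismProperty.isomorphisms Scheme.{u}) 𝒰).mpr fun i => ?_
    have H : IsPullback (𝟙 (Pc i)) (j i) (φ i) l := by
      refine IsOpenImmersion.isPullback _ _ _ _ (Category.id_comp (φ i)).symm ?_
      refine le_antisymm ?_ ?_
      · rw [hφr i, Scheme.Hom.preimage_inf, ← Scheme.Hom.comp_preimage, ← Scheme.Hom.comp_preimage,
          hl₁, hl₂]
        exact hrange i
      · rintro z ⟨w, rfl⟩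
        exact ⟨w, Scheme.Hom.comp_apply (j i) l w⟩
    show IsIso (pullback.snd _ _)
    erw [← H.flip.isoPullback_inv_snd]
    infer_instance
  exact .of_iso_pullback ⟨w⟩ (asIso l) hl₁ hl₂

variable {R R' A B σ τ : Type u} [CommRing R] [CommRing R'] [CommRing A] [CommRing B]
  [SetLike σ A] [AddSubgroupClass σ A] [SetLike τ B] [AddSubgroupClass τ B]
  {𝒜 : ℕ → σ} [GradedRing 𝒜] {ℬ : ℕ → τ} [GradedRing ℬ]
  [Algebra R R'] [Algebra R A] [Algebra R B] [Algebra R' B] [Algebra A B]
  [IsScalarTower R R' B] [IsScalarTower R A B] [Algebra.IsPushout R R' A B]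
  (ψ : 𝒜 →+*ᵍ ℬ) (hψB : ∀ x, ψ x = algebraMap A B x)
  (hψ : HomogeneousIdeal.irrelevant ℬ ≤ (HomogeneousIdeal.irrelevant 𝒜).map ψ)
  (a : CommRingCat.of R ⟶ CommRingCat.of (𝒜 0)) (b : CommRingCat.of R' ⟶ CommRingCat.of (ℬ 0))
  (ha : ∀ r, ((a.hom r : 𝒜 0) : A) = algebraMap R A r)
  (hb : ∀ r, ((b.hom r : ℬ 0) : B) = algebraMap R' B r)

include hψB ha hb

lemma zero_comm :
    a ≫ zeroHom ψ = CommRingCat.ofHom (algebraMap R R') ≫ b := by
  ext r : 2
  refine Subtype.ext ?_
  change ψ ((a.hom r : 𝒜 0) : A) = ((b.hom (algebraMap R R' r) : ℬ 0) : B)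
  rw [ha, hψB, hb, ← IsScalarTower.algebraMap_apply, ← IsScalarTower.algebraMap_apply]

set_option maxHeartbeats 1000000 in
/-- The degree-zero homogeneous localization commutes with base change. -/
theorem isPushout_away {s : A} {d : ℕ} (hs : s ∈ 𝒜 d) :
    IsPushout (CommRingCat.ofHom ((fromZeroRingHom 𝒜 (.powers s)).comp a.hom))
      (CommRingCat.ofHom (algebraMap R R'))
      (CommRingCat.ofHom (Away.map ψ s))
      (CommRingCat.ofHom ((fromZeroRingHom ℬ (.powers (ψ s))).comp b.hom)) := by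
  classical
  haveI : Algebra.IsPushout R A R' B := Algebra.IsPushout.symm inferInstance
  letI : Algebra R (Away 𝒜 s) := ((fromZeroRingHom 𝒜 (.powers s)).comp a.hom).toAlgebra
  letI : Algebra R (Away ℬ (ψ s)) :=
    (((fromZeroRingHom ℬ (.powers (ψ s))).comp b.hom).comp (algebraMap R R')).toAlgebra
  let ι₁ : Away 𝒜 s →ₐ[R] Away ℬ (ψ s) :=
    { Away.map ψ s with
      commutes' := fun r => by
        change Away.map ψ s (fromZeroRingHom 𝒜 _ (a.hom r)) = _
        rw [away_map_fromZero]
        have := congr($(zero_comm ψ hψB a b ha hb).hom r)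
        exact congrArg _ this }
  let ι₂ : R' →ₐ[R] Away ℬ (ψ s) :=
    { (fromZeroRingHom ℬ (.powers (ψ s))).comp b.hom with commutes' := fun r => rfl }
  let Φ : Away 𝒜 s ⊗[R] R' →ₐ[R] Away ℬ (ψ s) :=
    Algebra.TensorProduct.lift ι₁ ι₂ fun _ _ => .all _ _
  have hra : ∀ r, algebraMap R A r ∈ 𝒜 0 := fun r => ha r ▸ (a.hom r).2
  let L : ℕ → (A →ₗ[R] Away 𝒜 s) := fun n =>
    { toFun := fun x => Away.mk 𝒜 hs n (DirectSum.decompose 𝒜 x (n • d) : A) (SetLike.coe_mem _)
      map_add' := fun x y => val_injective _ (by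
        simp [Away.val_mk, Localization.add_mk_self])
      map_smul' := fun r x => val_injective _ (by
        rw [RingHom.id_apply, Away.val_mk, Algebra.smul_def r x,
          DirectSum.coe_decompose_mul_of_left_mem_zero 𝒜 (hra r)]
        rw [Algebra.smul_def r, val_mul, Away.val_mk, RingHom.algebraMap_toAlgebra,
          RingHom.comp_apply, val_fromZero, ha, ← Localization.mk_one_eq_algebraMap,
          Localization.mk_mul, one_mul]) }
  have hLval : ∀ n x, (L n x).val =
      (Localization.mk (DirectSum.decompose 𝒜 x (n • d) : A) ⟨s ^ n, n, rfl⟩ : Localization (Submonoid.powers s)) := fun n x => rfl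
  have hshift : ∀ n k x, L (n + k) (s ^ k * x) = L n x := fun n k x => by
    refine val_injective _ ?_
    rw [hLval, hLval, add_smul, add_comm (n • d),
      DirectSum.coe_decompose_mul_add_of_left_mem 𝒜 (SetLike.pow_mem_graded k hs),
      Localization.mk_eq_mk_iff, Localization.r_iff_exists]
    exact ⟨1, by simp [pow_add]; ring⟩
  let M : ℕ → (A ⊗[R] R' →ₗ[R] Away 𝒜 s ⊗[R] R') := fun n => (L n).rTensor R'
  let β : A ⊗[R] R' ≃ₐ[A] B := Algebra.IsPushout.equiv R A R' B
  have hmulβ : ∀ k y, β ((LinearMap.mulLeft R (s ^ k)).rTensor R' y) = ψ s ^ k * β y := by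
    intro k y
    induction y with
    | zero => simp
    | tmul x r =>
      rw [LinearMap.rTensor_tmul, LinearMap.mulLeft_apply]
      simp only [β, Algebra.IsPushout.equiv_tmul, map_mul, map_pow, hψB]
      ring
    | add y z hy hz => simp only [map_add, hy, hz, mul_add]
  have hMshift : ∀ n k y, M (n + k) ((LinearMap.mulLeft R (s ^ k)).rTensor R' y) = M n y := by
    intro n k y
    rw [← LinearMap.comp_apply]
    simp only [M, ← LinearMap.rTensor_comp]
    congr 2
    exact LinearMap.ext fun x => hshift n k x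
  have hΦM : ∀ n y, (Φ (M n y)).val =
      (Localization.mk (DirectSum.decompose ℬ (β y) (n • d) : B) ⟨ψ s ^ n, n, rfl⟩ : Localization (Submonoid.powers (ψ s))) := by
    intro n y
    induction y with
    | zero => simp [Localization.mk_zero]
    | add y z hy hz =>
      simp only [map_add, val_add, hy, hz, Localization.add_mk_self, DirectSum.decompose_add,
        DirectSum.add_apply, AddMemClass.coe_add]
    | tmul x r =>
      have hr : algebraMap R' B r ∈ ℬ 0 := hb r ▸ (b.hom r).2
      simp only [M, LinearMap.rTensor_tmul, Φ, Algebra.TensorProduct.lift_tmul, β,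
        Algebra.IsPushout.equiv_tmul]
      change (Away.map ψ s (L n x) * fromZeroRingHom ℬ _ (b.hom r)).val = _
      rw [val_mul, val_fromZero, hb, ← Localization.mk_one_eq_algebraMap,
        DirectSum.coe_decompose_mul_of_right_mem_zero ℬ hr, ← hψB,
        ← GradedRingHom.map_directSumDecompose]
      change (Away.map ψ s (Away.mk 𝒜 hs n _ _)).val * _ = _
      rw [Away.map_mk, Away.val_mk, Localization.mk_mul, mul_one]
  have hsurjM : ∀ z, ∃ n y, M n y = z := by
    intro z
    induction z with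
    | zero => exact ⟨0, 0, map_zero _⟩
    | tmul q r =>
      obtain ⟨n, x, hx, rfl⟩ := Away.mk_surjective 𝒜 hs q
      refine ⟨n, x ⊗ₜ r, ?_⟩
      simp only [M, LinearMap.rTensor_tmul]
      congr 1
      refine val_injective _ ?_
      rw [hLval, Away.val_mk, DirectSum.decompose_of_mem_same 𝒜 hx]
    | add z w hz hw =>
      obtain ⟨n, y, rfl⟩ := hz
      obtain ⟨m, y', rfl⟩ := hw
      refine ⟨n + m, (LinearMap.mulLeft R (s ^ m)).rTensor R' y +
        (LinearMap.mulLeft R (s ^ n)).rTensor R' y', ?_⟩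
      rw [map_add, hMshift, Nat.add_comm n m, hMshift]
  have hbij : Function.Bijective Φ := by
    constructor
    · rw [injective_iff_map_eq_zero]
      intro z hz
      obtain ⟨n, y, rfl⟩ := hsurjM z
      have h0 := hΦM n y
      rw [hz, val_zero, eq_comm, Localization.mk_eq_mk', IsLocalization.mk'_eq_zero_iff] at h0
      obtain ⟨⟨_, k, rfl⟩, hk⟩ := h0
      change ψ s ^ k * (DirectSum.decompose ℬ (β y) (n • d) : B) = 0 at hk
      let π : A →ₗ[R] A :=
        { toFun := fun x => (DirectSum.decompose 𝒜 x (n • d) : A)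
          map_add' := fun x y => by simp
          map_smul' := fun r x => by
            rw [RingHom.id_apply, Algebra.smul_def r x, Algebra.smul_def r,
              DirectSum.coe_decompose_mul_of_left_mem_zero 𝒜 (hra r)] }
      have hπ : ∀ y, β (π.rTensor R' y) = (DirectSum.decompose ℬ (β y) (n • d) : B) := by
        intro y
        induction y with
        | zero => simp
        | add y z hy hz =>
          simp only [map_add, hy, hz, DirectSum.decompose_add, DirectSum.add_apply,
            AddMemClass.coe_add]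
        | tmul x r =>
          simp only [LinearMap.rTensor_tmul, β, Algebra.IsPushout.equiv_tmul, π, LinearMap.coe_mk,
            AddHom.coe_mk]
          rw [DirectSum.coe_decompose_mul_of_right_mem_zero ℬ (hb r ▸ (b.hom r).2), ← hψB, ← hψB,
            GradedRingHom.map_directSumDecompose]
      have hy0 : (LinearMap.mulLeft R (s ^ k)).rTensor R' (π.rTensor R' y) = 0 :=
        β.injective (by rw [hmulβ, hπ, hk, map_zero])
      have hMπ : M n (π.rTensor R' y) = M n y := by
        rw [← LinearMap.comp_apply]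
        simp only [M, ← LinearMap.rTensor_comp]
        congr 2
        refine LinearMap.ext fun x => val_injective _ ?_
        rw [LinearMap.comp_apply, hLval, hLval]
        simp only [π, LinearMap.coe_mk, AddHom.coe_mk, DirectSum.decompose_coe,
          DirectSum.of_eq_same]
      rw [← hMπ, ← hMshift n k, hy0, map_zero]
    · intro z
      obtain ⟨n, y, hy, rfl⟩ := Away.mk_surjective ℬ (Graded.map_mem ψ hs) z
      refine ⟨M n (β.symm y), val_injective _ ?_⟩
      rw [hΦM, AlgEquiv.apply_symm_apply, DirectSum.decompose_of_mem_same ℬ hy, Away.val_mk]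
  let e : Away 𝒜 s ⊗[R] R' ≃+* Away ℬ (ψ s) := RingEquiv.ofBijective Φ.toRingHom hbij
  refine (CommRingCat.isPushout_tensorProduct R (Away 𝒜 s) R').of_iso (Iso.refl _) (Iso.refl _)
    (Iso.refl _) e.toCommRingCatIso ?_ ?_ ?_ ?_
  · simp only [Iso.refl_hom, Category.id_comp, Category.comp_id]; rfl
  · simp only [Iso.refl_hom, Category.id_comp, Category.comp_id]
  · refine CommRingCat.hom_ext (RingHom.ext fun x => ?_)
    change Φ (x ⊗ₜ 1) = Away.map ψ s x
    simp [Φ, ι₁]
  · refine CommRingCat.hom_ext (RingHom.ext fun x => ?_)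
    change Φ (1 ⊗ₜ x) = fromZeroRingHom ℬ _ (b.hom x)
    simp [Φ, ι₂]

include hψ in
/-- `Proj` commutes with base change. -/
theorem isPullback_baseChange :
    IsPullback (Proj.map ψ hψ) (toBase (𝒜 := ℬ) (.of R') b) (toBase (𝒜 := 𝒜) (.of R) a)
      (Spec.map (CommRingCat.ofHom (algebraMap R R'))) := by
  refine isPullback_of_charts (map_toBase ψ hψ a b _ (zero_comm ψ hψB a b ha hb))
    (ι := Σ i : PNat, 𝒜 i) (fun s => Spec (.of (Away ℬ (ψ (s.2 : A)))))
    (fun s => Spec (.of (Away 𝒜 (s.2 : A)))) (fun _ => Spec (.of R'))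
    (fun s => Proj.awayι ℬ (ψ (s.2 : A)) (Graded.map_mem ψ s.2.2) s.1.2)
    (fun s => Proj.awayι 𝒜 (s.2 : A) s.2.2 s.1.2) (fun _ => 𝟙 _)
    (fun s => Spec.map (CommRingCat.ofHom (Away.map ψ (s.2 : A))))
    (fun s => Spec.map (CommRingCat.ofHom
      ((fromZeroRingHom ℬ (.powers (ψ (s.2 : A)))).comp b.hom)))
    (fun s => (Proj.awayι_comp_map ψ hψ s.1.2 _ s.2.2).symm) (fun s => ?_) (fun s => ?_)
    (fun s => ?_) (fun x y _ => ?_)
  · rw [Category.comp_id, Proj.awayι_toSpecZero_assoc, ← Spec.map_comp]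
    rfl
  · rw [Category.id_comp, Proj.awayι_toSpecZero_assoc, ← Spec.map_comp]
    exact isPullback_SpecMap_of_isPushout _ _ _ _ (isPushout_away ψ hψB a b ha hb s.2.2)
  · rw [Proj.opensRange_awayι, Proj.opensRange_awayι, Proj.map_preimage_basicOpen]
    exact inf_le_left
  · obtain ⟨s, hs⟩ := (Proj.affineOpenCover 𝒜).openCover.exists_eq x
    exact ⟨s, ⟨_, hs.choose_spec⟩, by simp⟩

end Groth.Agent.RelProjLib
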