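import Groth.Agent.RelProjLib.QMap

/-!
Preimages of standard opens under `Proj(u)`, and the everywhere defined case.
-/

set_option autoImplicit false
set_option linter.style.haveILetI false
set_option backward.isDefEq.respectTransparency false

universe u

open CategoryTheory CategoryTheory.Limits AlgebraicGeometry TopologicalSpace Opposite
  HomogeneousLocalization
open scoped HomogeneousIdeal

noncomputable section

namespace Groth.Agent.RelProjLib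

lemma away_map_elem {A B σ τ : Type u} [CommRing A] [SetLike σ A] [AddSubgroupClass σ A]
    [CommRing B] [SetLike τ B] [AddSubgroupClass τ B] {𝒜 : ℕ → σ} {ℬ : ℕ → τ} [GradedRing 𝒜]
    [GradedRing ℬ] (φ : 𝒜 →+*ᵍ ℬ) {f g : A} {d e : ℕ} (hf : f ∈ 𝒜 d) (hg : g ∈ 𝒜 e) :
    Away.map φ g (Away.isLocalizationElem hg hf) =
      Away.isLocalizationElem (Graded.map_mem φ hg) (Graded.map_mem φ hf) := by
  refine val_injective _ ?_
  simp only [Away.isLocalizationElem, Away.map_mk, Away.val_mk, map_pow]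

variable {S S' : Scheme.{u}} {g : S' ⟶ S} {𝒮 : RelProj.QCGrAlg S} {𝒮' : RelProj.QCGrAlg S'}
  (u : RelProj.QGrHom g 𝒮 𝒮') {P P' : Scheme.{u}} {q : P ⟶ S} {q' : P' ⟶ S'}
  {ch : ∀ (U : S.Opens) (hU : IsAffineOpen U), ((q ⁻¹ᵁ U : P.Opens) : Scheme.{u}) ≅ Proj (𝒮.deg U hU)}
  {ch' : ∀ (U' : S'.Opens) (hU' : IsAffineOpen U'), ((q' ⁻¹ᵁ U' : P'.Opens) : Scheme.{u}) ≅ Proj (𝒮'.deg U' hU')}
  (hP : RelProj.IsRelProj 𝒮 q ch) (hP' : RelProj.IsRelProj 𝒮' q' ch')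
  {v : (RelProj.domQ u q' ch' : P'.Opens).toScheme ⟶ P}
  (hv : RelProj.IsProjQMapOn u q ch q' ch' (RelProj.domQ u q' ch') v)

include hP' hv in
/-- `v⁻¹` of `D₊(f)` over `U`, seen over `U'`, is `D₊(u f)`. -/
theorem mem_preimage_iff {U : S.Opens} (hU : IsAffineOpen U) {U' : S'.Opens} (hU' : IsAffineOpen U')
    (hle : U' ≤ g ⁻¹ᵁ U) {d : ℕ} (hd : 0 < d) {f : 𝒮.presheaf.obj (op U)} (hf : f ∈ 𝒮.deg U hU d)
    (z : (RelProj.domQ u q' ch' : P'.Opens).toScheme)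
    (hz : q' ((RelProj.domQ u q' ch').ι z) ∈ U') :
    v z ∈ RelProj.emb q ch U hU ''ᵁ Proj.basicOpen (𝒮.deg U hU) f ↔
      (RelProj.domQ u q' ch').ι z ∈ RelProj.emb q' ch' U' hU' ''ᵁ
        Proj.basicOpen (𝒮'.deg U' hU') (u.gradedAt U hU U' hU' hle f) := by
  obtain ⟨e, he, f₁, hf₁, a, ha⟩ := exists_idx_of_mem u hP' z.2 hU hU' hle hz
  let c : Idx (g := g) (𝒮 := 𝒮) := ⟨U, hU, U', hU', hle, e, he, f₁, hf₁⟩
  obtain rfl : srcLift u q' ch' c a = z := by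
    refine (RelProj.domQ u q' ch').ι.isOpenEmbedding.injective ?_
    rw [← Scheme.Hom.comp_apply, srcLift_ι]
    exact ha
  let ψ := u.gradedAt U hU U' hU' hle
  have hvz : v (srcLift u q' ch' c a) = RelProj.emb q ch U hU (Proj.awayι (𝒮.deg U hU) f₁ hf₁ he
      (Spec.map (CommRingCat.ofHom (Away.map ψ f₁)) a)) := by
    rw [← Scheme.Hom.comp_apply, (isProjQMapOn_iff u v).mp hv c]
    unfold tgt
    rw [Scheme.Hom.comp_apply, Scheme.Hom.comp_apply]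
  have hzz : (RelProj.domQ u q' ch').ι (srcLift u q' ch' c a) = RelProj.emb q' ch' U' hU'
      (Proj.awayι (𝒮'.deg U' hU') (ψ f₁) (Graded.map_mem ψ hf₁) he a) := by
    rw [← Scheme.Hom.comp_apply, srcLift_ι]
    unfold src RelProj.awayEmb
    rw [Scheme.Hom.comp_apply]
  rw [hvz, hzz]
  have inj : ∀ {X Y : Scheme.{u}} (k : X ⟶ Y) [IsOpenImmersion k] (O : X.Opens) (x : X),
      k x ∈ k ''ᵁ O ↔ x ∈ O := fun k _ O x =>
    ⟨fun ⟨y, hy, e⟩ => k.isOpenEmbedding.injective e ▸ hy, fun h => ⟨x, h, rfl⟩⟩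
  rw [inj, inj]
  change Spec.map (CommRingCat.ofHom (Away.map ψ f₁)) a ∈
      Proj.awayι (𝒮.deg U hU) f₁ hf₁ he ⁻¹ᵁ Proj.basicOpen (𝒮.deg U hU) f ↔
    a ∈ Proj.awayι (𝒮'.deg U' hU') (ψ f₁) (Graded.map_mem ψ hf₁) he ⁻¹ᵁ
      Proj.basicOpen (𝒮'.deg U' hU') (ψ f)
  rw [Proj.awayι_preimage_basicOpen (𝒮.deg U hU) hf₁ he hf hd,
    Proj.awayι_preimage_basicOpen (𝒮'.deg U' hU') (Graded.map_mem ψ hf₁) he (Graded.map_mem ψ hf) hd,
    ← away_map_elem]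
  rfl

lemma domQ_eq_top_of_forall (hP' : RelProj.IsRelProj 𝒮' q' ch')
    (h : ∀ (y : S'), ∃ (U : S.Opens) (hU : IsAffineOpen U) (U' : S'.Opens) (hU' : IsAffineOpen U')
      (hle : U' ≤ g ⁻¹ᵁ U), y ∈ U' ∧
      (𝒮'.deg U' hU')₊ ≤ ((𝒮.deg U hU)₊).map (u.gradedAt U hU U' hU' hle)) :
    RelProj.domQ u q' ch' = ⊤ := by
  refine eq_top_iff.mpr fun z _ => ?_
  obtain ⟨U, hU, U', hU', hle, hz, hirr⟩ := h (q' z)
  obtain ⟨y, rfl⟩ : z ∈ (RelProj.emb q' ch' U' hU').opensRange := by rw [opensRange_emb]; exact hz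
  have : RelProj.emb q' ch' U' hU' y ∈
      RelProj.emb q' ch' U' hU' ''ᵁ RelCone.domOpen (u.gradedAt U hU U' hU' hle) := by
    refine ⟨y, (RelCone.mem_domOpen _ _).mpr ?_, rfl⟩
    by_contra! hno
    refine y.not_irrelevant_le (hirr.trans ?_)
    exact Ideal.map_le_iff_le_comap.mpr fun f hf => hno f hf
  rw [← domQ_inf u hP' hU hU' hle] at this
  exact this.1

lemma gradedAt_ofHom {𝒜 ℬ : RelProj.QCGrAlg S} (φ : 𝒜.toQCAlg ⟶ ℬ.toQCAlg)
    (hφ : RelProj.IsGradedHom φ) (U : S.Opens) (hU : IsAffineOpen U) :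
    (RelProj.QGrHom.ofHom φ hφ).gradedAt U hU U hU le_rfl = RelProj.gradedHomAt φ hφ U hU :=
  GradedRingHom.ext fun x => by
    change (ℬ.presheaf.map (homOfLE (le_refl U)).op).hom ((φ.hom.app (op U)).hom x) = _
    rw [show (homOfLE (le_refl U)).op = 𝟙 (op U) from rfl, ℬ.presheaf.map_id]
    rfl

end Groth.Agent.RelProjLib
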