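import Groth.Agent.RelProjLib.Basic

/-!
Morphisms of relative Proj's induced by graded homomorphisms; properties local on the charts.
-/

set_option autoImplicit false
set_option linter.style.haveILetI false
set_option backward.isDefEq.respectTransparency false

universe u

open CategoryTheory CategoryTheory.Limits AlgebraicGeometry TopologicalSpace Opposite
open scoped HomogeneousIdeal

noncomputable section

namespace Groth.Agent.RelProjLib

variable {S PA PB : Scheme.{u}} {𝒜 ℬ : RelProj.QCGrAlg S} {qA : PA ⟶ S} {qB : PB ⟶ S}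
  {chA : ∀ (U : S.Opens) (hU : IsAffineOpen U), ((qA ⁻¹ᵁ U : PA.Opens) : Scheme.{u}) ≅ Proj (𝒜.deg U hU)}
  {chB : ∀ (U : S.Opens) (hU : IsAffineOpen U), ((qB ⁻¹ᵁ U : PB.Opens) : Scheme.{u}) ≅ Proj (ℬ.deg U hU)}
  {φ : 𝒜.toQCAlg ⟶ ℬ.toQCAlg} {hφ : RelProj.IsGradedHom φ}
  {hirr : ∀ (U : S.Opens) (hU : IsAffineOpen U),
      (ℬ.deg U hU)₊ ≤ ((𝒜.deg U hU)₊).map (RelProj.gradedHomAt φ hφ U hU)}

lemma gradedHomAt_res {U V : S.Opens} (hU : IsAffineOpen U) (hV : IsAffineOpen V) (i : V ≤ U) :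
    (ℬ.res hU hV i).comp (RelProj.gradedHomAt φ hφ U hU) =
      (RelProj.gradedHomAt φ hφ V hV).comp (𝒜.res hU hV i) :=
  GradedRingHom.ext fun x => (ConcreteCategory.congr_hom (φ.hom.naturality (homOfLE i).op) x).symm

lemma gradedHomAt_zero (U : S.Opens) (hU : IsAffineOpen U) :
    𝒜.strZero U hU ≫ zeroHom (RelProj.gradedHomAt φ hφ U hU) = ℬ.strZero U hU := by
  ext x : 2
  exact Subtype.ext (ConcreteCategory.congr_hom (NatTrans.congr_app φ.comm (op U)) x)

lemma isRelProjMap_iff (h : PB ⟶ PA) :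
    RelProj.IsRelProjMap φ hφ hirr chA chB h ↔ ∀ (U : S.Opens) (hU : IsAffineOpen U),
      RelProj.emb qB chB U hU ≫ h =
        Proj.map (RelProj.gradedHomAt φ hφ U hU) (hirr U hU) ≫ RelProj.emb qA chA U hU := by
  refine forall₂_congr fun U hU => ?_
  rw [← cancel_epi (chB U hU).inv, Iso.inv_hom_id_assoc, ← Category.assoc]
  rfl

variable (hA : RelProj.IsRelProj 𝒜 qA chA) (hB : RelProj.IsRelProj ℬ qB chB)
include hA hB

theorem relProjMap_over {h : PB ⟶ PA} (hh : RelProj.IsRelProjMap φ hφ hirr chA chB h) :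
    h ≫ qA = qB := by
  refine hom_ext (𝒮 := ℬ) (q := qB) (ch := chB) fun U hU => ?_
  rw [← Category.assoc, (isRelProjMap_iff h).mp hh U hU, Category.assoc, emb_p hA, emb_p hB,
    affBase_eq, affBase_eq, Category.assoc, Category.assoc, map_toSpecZero_assoc,
    ← Spec.map_comp_assoc, gradedHomAt_zero]

theorem existsUnique_relProjMap :
    ∃! h : PB ⟶ PA, RelProj.IsRelProjMap φ hφ hirr chA chB h := by
  simp only [isRelProjMap_iff]
  refine existsUnique_desc hB
    (fun U hU => Proj.map (RelProj.gradedHomAt φ hφ U hU) (hirr U hU) ≫ RelProj.emb qA chA U hU)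
    fun U hU r => ?_
  rw [← Category.assoc, ← Proj.map_comp, map_congr (gradedHomAt_res hU (hU.basicOpen r) _) _
    (HomogeneousIdeal.irrelevant_le_map_comp (𝒜.irrelevant_le_map U hU r) (hirr _ _)),
    Proj.map_comp, Category.assoc, RelProj.map_res_emb hA]
  exact 𝒜.irrelevant_le_map U hU r

/-- A property local at the target holds for the induced morphism if it holds on every chart. -/
theorem prop_of_map (Q : MorphismProperty Scheme.{u}) [IsZariskiLocalAtTarget Q]
    {h : PB ⟶ PA} (hh : RelProj.IsRelProjMap φ hφ hirr chA chB h)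
    (H : ∀ (U : S.Opens) (hU : IsAffineOpen U),
      Q (Proj.map (RelProj.gradedHomAt φ hφ U hU) (hirr U hU))) : Q h := by
  refine IsZariskiLocalAtTarget.of_openCover (embCover (𝒮 := 𝒜) (q := qA) (ch := chA)) fun U => ?_
  have Hpb : IsPullback (Proj.map (RelProj.gradedHomAt φ hφ U.1 U.2) (hirr U.1 U.2))
      (RelProj.emb qB chB U.1 U.2) (RelProj.emb qA chA U.1 U.2) h := by
    refine IsOpenImmersion.isPullback _ _ _ _ ((isRelProjMap_iff h).mp hh U.1 U.2) ?_
    rw [opensRange_emb, opensRange_emb, ← Scheme.Hom.comp_preimage, relProjMap_over hA hB hh]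
  show Q (pullback.snd _ _)
  erw [← Hpb.flip.isoPullback_inv_snd]
  exact (Q.cancel_left_of_respectsIso _ _).mpr (H U.1 U.2)

end Groth.Agent.RelProjLib
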