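import Groth.Prelude.Def_RelProj4
import Groth.Agent.RelProjLib.Chart

/-!
The morphism `Proj(u)` of a graded `g`-morphism on its open of definition `G(u)`: refinement of
standard charts, description of `G(u)`, existence and uniqueness.
-/

set_option autoImplicit false
set_option linter.style.haveILetI false
set_option backward.isDefEq.respectTransparency false

universe u

open CategoryTheory CategoryTheory.Limits AlgebraicGeometry TopologicalSpace Opposite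
  HomogeneousLocalization
open scoped HomogeneousIdeal

noncomputable section

namespace Groth.Agent.RelProjLib

section ring

variable {A A' B B' σA σA' σB σB' : Type u} [CommRing A] [CommRing A'] [CommRing B] [CommRing B']
  [SetLike σA A] [AddSubgroupClass σA A] [SetLike σA' A'] [AddSubgroupClass σA' A']
  [SetLike σB B] [AddSubgroupClass σB B] [SetLike σB' B'] [AddSubgroupClass σB' B']
  {𝒜 : ℕ → σA} [GradedRing 𝒜] {𝒜' : ℕ → σA'} [GradedRing 𝒜']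
  {ℬ : ℕ → σB} [GradedRing ℬ] {ℬ' : ℕ → σB'} [GradedRing ℬ']
  (ψ : 𝒜 →+*ᵍ ℬ) (ψ' : 𝒜' →+*ᵍ ℬ') (α : 𝒜 →+*ᵍ 𝒜') (β : ℬ →+*ᵍ ℬ')

lemma away_square (hsq : ∀ a, β (ψ a) = ψ' (α a)) {f : A} {d : ℕ} (hf : f ∈ 𝒜 d)
    {k : A'} {e : ℕ} (hk : k ∈ 𝒜' e) {x : A'} (hx : x = α f * k)
    (hy : ψ' x = β (ψ f) * ψ' k) (z : Away 𝒜 f) :
    awayMap ℬ' (Graded.map_mem ψ' hk) hy (Away.map β (ψ f) (Away.map ψ f z)) =
      Away.map ψ' x (awayMap 𝒜' hk hx (Away.map α f z)) := by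
  obtain ⟨n, a, ha, rfl⟩ := Away.mk_surjective 𝒜 hf z
  refine val_injective _ ?_
  simp only [Away.map_mk, awayMap_mk, Away.val_mk, map_mul, map_pow, hsq]

end ring

variable {S S' : Scheme.{u}} {g : S' ⟶ S} {𝒮 : RelProj.QCGrAlg S} {𝒮' : RelProj.QCGrAlg S'}
  (u : RelProj.QGrHom g 𝒮 𝒮') {P P' : Scheme.{u}} {q : P ⟶ S} {q' : P' ⟶ S'}
  {ch : ∀ (U : S.Opens) (hU : IsAffineOpen U), ((q ⁻¹ᵁ U : P.Opens) : Scheme.{u}) ≅ Proj (𝒮.deg U hU)}
  {ch' : ∀ (U' : S'.Opens) (hU' : IsAffineOpen U'), ((q' ⁻¹ᵁ U' : P'.Opens) : Scheme.{u}) ≅ Proj (𝒮'.deg U' hU')}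

lemma res_gradedAt {U V : S.Opens} (hU : IsAffineOpen U) (hV : IsAffineOpen V) (i : V ≤ U)
    {U' V' : S'.Opens} (hU' : IsAffineOpen U') (hV' : IsAffineOpen V') (i' : V' ≤ U')
    (hle : U' ≤ g ⁻¹ᵁ U) (hle' : V' ≤ g ⁻¹ᵁ V) (a : 𝒮.presheaf.obj (op U)) :
    𝒮'.res hU' hV' i' (u.gradedAt U hU U' hU' hle a) =
      u.gradedAt V hV V' hV' hle' (𝒮.res hU hV i a) := by
  simp only [RelProj.QCGrAlg.res_apply, RelProj.QGrHom.gradedAt_apply]
  rw [← CommRingCat.comp_apply, ← CommRingCat.comp_apply, u.toQHom.appLE_map, u.toQHom.map_appLE]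

/-- An affine open as an element of the affine Zariski site. -/
def azs {X : Scheme.{u}} (U : X.Opens) (hU : IsAffineOpen U) : X.AffineZariskiSite := ⟨U, hU⟩

/-- A standard chart of `G(u)`. -/
structure Idx where
  U : S.Opens
  hU : IsAffineOpen U
  U' : S'.Opens
  hU' : IsAffineOpen U'
  hle : U' ≤ g ⁻¹ᵁ U
  d : ℕ
  hd : 0 < d
  f : 𝒮.presheaf.obj (op U)
  hf : f ∈ 𝒮.deg U hU d

variable (q ch q' ch')

/-- The source chart. -/
def src (c : Idx (g := g) (𝒮 := 𝒮)) :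
    Spec (.of (Away (𝒮'.deg c.U' c.hU') (u.gradedAt c.U c.hU c.U' c.hU' c.hle c.f))) ⟶ P' :=
  RelProj.awayEmb u q' ch' c.U c.hU c.U' c.hU' c.hle c.hd c.f c.hf

/-- The prescribed value of `Proj(u)` on the source chart. -/
def tgt (c : Idx (g := g) (𝒮 := 𝒮)) :
    Spec (.of (Away (𝒮'.deg c.U' c.hU') (u.gradedAt c.U c.hU c.U' c.hU' c.hle c.f))) ⟶ P :=
  Spec.map (CommRingCat.ofHom (Away.map (u.gradedAt c.U c.hU c.U' c.hU' c.hle) c.f)) ≫
    Proj.awayι (𝒮.deg c.U c.hU) c.f c.hf c.hd ≫ RelProj.emb q ch c.U c.hU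

instance (c : Idx (g := g) (𝒮 := 𝒮)) : IsOpenImmersion (src u q' ch' c) := by
  unfold src RelProj.awayEmb; infer_instance

lemma opensRange_src (c : Idx (g := g) (𝒮 := 𝒮)) :
    (src u q' ch' c).opensRange =
      RelProj.emb q' ch' c.U' c.hU' ''ᵁ
        Proj.basicOpen (𝒮'.deg c.U' c.hU') (u.gradedAt c.U c.hU c.U' c.hU' c.hle c.f) := by
  unfold src RelProj.awayEmb
  rw [Scheme.Hom.opensRange_comp, Proj.opensRange_awayι]

variable {q ch q' ch'}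
variable (hP : RelProj.IsRelProj 𝒮 q ch) (hP' : RelProj.IsRelProj 𝒮' q' ch')
include hP hP'

/-- The source and target of a standard chart restrict to those of a finer one. -/
lemma exists_refine (c : Idx (g := g) (𝒮 := 𝒮)) (W : S.AffineZariskiSite)
    (hW : W ≤ ⟨c.U, c.hU⟩) (W' : S'.AffineZariskiSite) (hW' : W' ≤ ⟨c.U', c.hU'⟩)
    (hle : W'.1 ≤ g ⁻¹ᵁ W.1) {e : ℕ} (k : 𝒮.presheaf.obj (op W.1)) (hk : k ∈ 𝒮.deg W.1 W.2 e)
    (x : 𝒮.presheaf.obj (op W.1))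
    (hx : x = 𝒮.res c.hU W.2 (Scheme.AffineZariskiSite.toOpens_mono hW) c.f * k) (hxd : x ∈ 𝒮.deg W.1 W.2 (c.d + e)) :
    ∃ j, j ≫ src u q' ch' c =
          src u q' ch' ⟨W.1, W.2, W'.1, W'.2, hle, c.d + e, Nat.add_pos_left c.hd e, x, hxd⟩ ∧
        j ≫ tgt u q ch c =
          tgt u q ch ⟨W.1, W.2, W'.1, W'.2, hle, c.d + e, Nat.add_pos_left c.hd e, x, hxd⟩ := by
  set ψ := u.gradedAt c.U c.hU c.U' c.hU' c.hle
  set ψ' := u.gradedAt W.1 W.2 W'.1 W'.2 hle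
  set α := 𝒮.res c.hU W.2 (Scheme.AffineZariskiSite.toOpens_mono hW)
  set β := 𝒮'.res c.hU' W'.2 (Scheme.AffineZariskiSite.toOpens_mono hW')
  have hsq : ∀ a, β (ψ a) = ψ' (α a) := fun a => res_gradedAt u _ _ _ _ _ _ _ _ a
  have hy : ψ' x = β (ψ c.f) * ψ' k := by rw [hsq, ← map_mul, ← hx]
  refine ⟨Spec.map (CommRingCat.ofHom ((awayMap (𝒮'.deg W'.1 W'.2) (Graded.map_mem ψ' hk) hy).comp
    (Away.map β (ψ c.f)))), ?_, ?_⟩
  · change _ ≫ Proj.awayι (𝒮'.deg c.U' c.hU') (ψ c.f) (Graded.map_mem ψ c.hf) c.hd ≫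
        RelProj.emb q' ch' c.U' c.hU' =
      Proj.awayι (𝒮'.deg W'.1 W'.2) (ψ' x) (Graded.map_mem ψ' hxd) _ ≫ RelProj.emb q' ch' W'.1 W'.2
    rw [CommRingCat.ofHom_comp, Spec.map_comp, Category.assoc,
      ← Proj.awayι_comp_map_assoc β (irr 𝒮' hW') c.hd (ψ c.f) (Graded.map_mem ψ c.hf),
      Proj.SpecMap_awayMap_awayι_assoc]
    exact congrArg (_ ≫ ·) (functor_map_emb hP' (homOfLE hW'))
  · change _ ≫ Spec.map (CommRingCat.ofHom (Away.map ψ c.f)) ≫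
        Proj.awayι (𝒮.deg c.U c.hU) c.f c.hf c.hd ≫ RelProj.emb q ch c.U c.hU =
      Spec.map (CommRingCat.ofHom (Away.map ψ' x)) ≫
        Proj.awayι (𝒮.deg W.1 W.2) x hxd _ ≫ RelProj.emb q ch W.1 W.2
    have e1 : CommRingCat.ofHom (Away.map ψ c.f) ≫
        CommRingCat.ofHom ((awayMap (𝒮'.deg W'.1 W'.2) (Graded.map_mem ψ' hk) hy).comp
          (Away.map β (ψ c.f))) =
        CommRingCat.ofHom (Away.map α c.f) ≫ CommRingCat.ofHom (awayMap (𝒮.deg W.1 W.2) hk hx) ≫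
          CommRingCat.ofHom (Away.map ψ' x) :=
      CommRingCat.hom_ext (RingHom.ext fun z => away_square ψ ψ' α β hsq c.hf hk hx hy z)
    rw [← Spec.map_comp_assoc, e1, Spec.map_comp_assoc, Spec.map_comp_assoc,
      ← Proj.awayι_comp_map_assoc α (irr 𝒮 hW) c.hd c.f c.hf, Proj.SpecMap_awayMap_awayι_assoc]
    exact congrArg (fun m => _ ≫ _ ≫ m) (functor_map_emb hP (homOfLE hW))

/-- A point in two standard charts lies in a common refinement. -/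
lemma tgt_eq_tgt (c c' : Idx (g := g) (𝒮 := 𝒮))
    (a : Spec (.of (Away (𝒮'.deg c.U' c.hU') (u.gradedAt c.U c.hU c.U' c.hU' c.hle c.f))))
    (a' : Spec (.of (Away (𝒮'.deg c'.U' c'.hU') (u.gradedAt c'.U c'.hU c'.U' c'.hU' c'.hle c'.f))))
    (h : src u q' ch' c a = src u q' ch' c' a') :
    ∃ (T : Scheme.{u}) (j : T ⟶ _) (j' : T ⟶ _), a ∈ Set.range j ∧ IsOpenImmersion j ∧
      j ≫ src u q' ch' c = j' ≫ src u q' ch' c' ∧ j ≫ tgt u q ch c = j' ≫ tgt u q ch c' := by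
  set z := src u q' ch' c a with hz
  have hz₁ : z ∈ (src u q' ch' c).opensRange := ⟨a, rfl⟩
  have hz₂ : z ∈ (src u q' ch' c').opensRange := ⟨a', h.symm⟩
  rw [opensRange_src] at hz₁ hz₂
  have hy₁ : q' z ∈ c.U' := by
    have := Scheme.Hom.image_le_opensRange _ _ hz₁; rwa [opensRange_emb] at this
  have hy₂ : q' z ∈ c'.U' := by
    have := Scheme.Hom.image_le_opensRange _ _ hz₂; rwa [opensRange_emb] at this
  obtain ⟨r, s, e, hr⟩ := exists_basicOpen_le_affine_inter c.hU c'.hU (g (q' z))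
    ⟨c.hle hy₁, c'.hle hy₂⟩
  obtain ⟨r', s', e', hr'⟩ := exists_basicOpen_le_affine_inter c.hU' c'.hU' (q' z) ⟨hy₁, hy₂⟩
  obtain ⟨t, ht, hxt⟩ := (c.hU'.basicOpen r').exists_basicOpen_le
    (V := g ⁻¹ᵁ S.basicOpen r) ⟨q' z, hr⟩ hr'
  obtain ⟨r₁, hr₁⟩ := c.hU'.basicOpen_basicOpen_is_basicOpen r' t
  obtain ⟨W', hW'c, hW'c', hle, hzW'⟩ : ∃ W' : S'.AffineZariskiSite,
      W' ≤ ⟨c.U', c.hU'⟩ ∧ W' ≤ ⟨c'.U', c'.hU'⟩ ∧ W'.1 ≤ g ⁻¹ᵁ S.basicOpen r ∧ q' z ∈ W'.1 := by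
    refine ⟨⟨S'.basicOpen t, (c.hU'.basicOpen r').basicOpen t⟩, ⟨r₁, hr₁⟩, ?_, ht, hxt⟩
    have h1 : azs (S'.basicOpen t) ((c.hU'.basicOpen r').basicOpen t) ≤
      azs (S'.basicOpen r') (c.hU'.basicOpen r') := ⟨t, rfl⟩
    have h2 : azs (S'.basicOpen r') (c.hU'.basicOpen r') ≤ azs c'.U' c'.hU' := ⟨s', e'.symm⟩
    exact h1.trans h2
  let W : S.AffineZariskiSite := ⟨S.basicOpen r, c.hU.basicOpen r⟩
  have hWc : W ≤ ⟨c.U, c.hU⟩ := ⟨r, rfl⟩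
  have hWc' : W ≤ ⟨c'.U, c'.hU⟩ := ⟨s, e.symm⟩
  let f₁ := 𝒮.res c.hU W.2 (Scheme.AffineZariskiSite.toOpens_mono hWc) c.f
  let f₂ := 𝒮.res c'.hU W.2 (Scheme.AffineZariskiSite.toOpens_mono hWc') c'.f
  have hf₁ : f₁ ∈ 𝒮.deg W.1 W.2 c.d := 𝒮.map_mem _ _ _ c.hf
  have hf₂ : f₂ ∈ 𝒮.deg W.1 W.2 c'.d := 𝒮.map_mem _ _ _ c'.hf
  obtain ⟨j, hj, hjt⟩ := exists_refine u hP hP' c W hWc W' hW'c hle f₂ hf₂ (f₁ * f₂) rfl
    (SetLike.mul_mem_graded hf₁ hf₂)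
  obtain ⟨j', hj', hjt'⟩ := exists_refine u hP hP' c' W hWc' W' hW'c' hle f₁ hf₁ (f₁ * f₂)
    (mul_comm _ _) (Nat.add_comm c.d c'.d ▸ SetLike.mul_mem_graded hf₁ hf₂)
  haveI : IsOpenImmersion j := by
    haveI : IsOpenImmersion (j ≫ src u q' ch' c) := by rw [hj]; infer_instance
    exact IsOpenImmersion.of_comp j (src u q' ch' c)
  have key : ∀ (d₁ d₂ : ℕ) (hd₁ : 0 < d₁) (hd₂ : 0 < d₂) (x : 𝒮.presheaf.obj (op W.1))
      (h₁ : x ∈ 𝒮.deg W.1 W.2 d₁) (h₂ : x ∈ 𝒮.deg W.1 W.2 d₂), d₁ = d₂ →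
      src u q' ch' ⟨W.1, W.2, W'.1, W'.2, hle, d₁, hd₁, x, h₁⟩ =
        src u q' ch' ⟨W.1, W.2, W'.1, W'.2, hle, d₂, hd₂, x, h₂⟩ ∧
      tgt u q ch ⟨W.1, W.2, W'.1, W'.2, hle, d₁, hd₁, x, h₁⟩ =
        tgt u q ch ⟨W.1, W.2, W'.1, W'.2, hle, d₂, hd₂, x, h₂⟩ := by
    intro d₁ d₂ hd₁ hd₂ x h₁ h₂ e; subst e; exact ⟨rfl, rfl⟩
  obtain ⟨k₁, k₂⟩ := key _ _ (Nat.add_pos_left c.hd c'.d) (Nat.add_pos_left c'.hd c.d) (f₁ * f₂)
    (SetLike.mul_mem_graded hf₁ hf₂) (Nat.add_comm c.d c'.d ▸ SetLike.mul_mem_graded hf₁ hf₂)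
    (Nat.add_comm _ _)
  refine ⟨_, j, j', ?_, inferInstance, hj.trans (k₁.trans hj'.symm), hjt.trans (k₂.trans hjt'.symm)⟩
  obtain ⟨y, hy⟩ : z ∈ (src u q' ch' ⟨W.1, W.2, W'.1, W'.2, hle, c.d + c'.d,
      Nat.add_pos_left c.hd c'.d, f₁ * f₂, SetLike.mul_mem_graded hf₁ hf₂⟩).opensRange := by
    rw [opensRange_src]
    obtain ⟨y, hy⟩ : z ∈ (RelProj.emb q' ch' W'.1 W'.2).opensRange := by
      rw [opensRange_emb]; exact hzW'
    refine ⟨y, ?_, hy⟩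
    have aux : ∀ (c : Idx (g := g) (𝒮 := 𝒮)) (hWc : W ≤ ⟨c.U, c.hU⟩) (hW'c : W' ≤ ⟨c.U', c.hU'⟩),
        z ∈ RelProj.emb q' ch' c.U' c.hU' ''ᵁ
          Proj.basicOpen (𝒮'.deg c.U' c.hU') (u.gradedAt c.U c.hU c.U' c.hU' c.hle c.f) →
        y ∈ Proj.basicOpen (𝒮'.deg W'.1 W'.2) (u.gradedAt W.1 W.2 W'.1 W'.2 hle
          (𝒮.res c.hU W.2 (Scheme.AffineZariskiSite.toOpens_mono hWc) c.f)) := by
      intro c hWc hW'c hzc
      rw [← res_gradedAt u c.hU W.2 _ c.hU' W'.2 (Scheme.AffineZariskiSite.toOpens_mono hW'c) c.hle hle,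
        ← Proj.map_preimage_basicOpen _ (irr 𝒮' hW'c)]
      obtain ⟨w, hw, hwz⟩ := hzc
      have : w = (functor 𝒮').map (homOfLE hW'c) y := by
        refine (RelProj.emb q' ch' c.U' c.hU').isOpenEmbedding.injective ?_
        refine hwz.trans (hy.symm.trans ?_)
        exact ((congrArg (fun k : _ ⟶ P' => k y) (functor_map_emb hP' (homOfLE hW'c))).symm).trans
          (Scheme.Hom.comp_apply _ _ _)
      subst this
      exact hw
    show y ∈ Proj.basicOpen (𝒮'.deg W'.1 W'.2) (u.gradedAt W.1 W.2 W'.1 W'.2 hle (f₁ * f₂))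
    rw [map_mul, Proj.basicOpen_mul]
    exact ⟨aux c hWc hW'c hz₁, aux c' hWc' hW'c' hz₂⟩
  refine ⟨y, (src u q' ch' c).isOpenEmbedding.injective ?_⟩
  rw [← Scheme.Hom.comp_apply, hj]
  exact hy

omit hP in
/-- `G(u)` over an affine pair is `G(u_{U,U'})`. -/
theorem domQ_inf {U : S.Opens} (hU : IsAffineOpen U) {U' : S'.Opens} (hU' : IsAffineOpen U')
    (hle : U' ≤ g ⁻¹ᵁ U) :
    RelProj.domQ u q' ch' ⊓ q' ⁻¹ᵁ U' =
      RelProj.emb q' ch' U' hU' ''ᵁ RelCone.domOpen (u.gradedAt U hU U' hU' hle) := by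
  classical
  refine le_antisymm ?_ (le_inf ?_ ((Scheme.Hom.image_le_opensRange _ _).trans_eq (opensRange_emb U' hU')))
  · rw [RelProj.domQ, iSup_inf_eq]
    refine iSup_le fun ⟨⟨U₁, U₁'⟩, hle₁⟩ => ?_
    rintro z ⟨⟨w, hw, rfl⟩, hzU'⟩
    obtain ⟨f, hf, hfw⟩ := (RelCone.mem_domOpen _ _).mp hw
    obtain ⟨d, hd, hfd⟩ : ∃ d, 0 < d ∧ u.gradedAt U₁.1 U₁.2 U₁'.1 U₁'.2 hle₁
        (DirectSum.decompose (𝒮.deg U₁.1 U₁.2) f d : 𝒮.presheaf.obj (op U₁.1)) ∉ w.asHomogeneousIdeal := by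
      by_contra! hno
      apply hfw
      rw [← DirectSum.sum_support_decompose (𝒮.deg U₁.1 U₁.2) f, map_sum]
      refine Ideal.sum_mem _ fun i _ => ?_
      rcases Nat.eq_zero_or_pos i with rfl | hi
      · rw [show (DirectSum.decompose (𝒮.deg U₁.1 U₁.2) f 0 : 𝒮.presheaf.obj (op U₁.1)) = 0
          from hf, map_zero]
        exact Ideal.zero_mem _
      · exact hno i hi
    set f' : 𝒮.presheaf.obj (op U₁.1) := (DirectSum.decompose (𝒮.deg U₁.1 U₁.2) f d : 𝒮.presheaf.obj (op U₁.1))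
    set z := RelProj.emb q' ch' U₁'.1 U₁'.2 w
    have hzU₁' : q' z ∈ U₁'.1 := by
      have : z ∈ (RelProj.emb q' ch' U₁'.1 U₁'.2).opensRange := ⟨w, rfl⟩
      rwa [opensRange_emb] at this
    obtain ⟨r, s, e, hr⟩ := exists_basicOpen_le_affine_inter hU U₁.2 (g (q' z))
      ⟨hle hzU', hle₁ hzU₁'⟩
    obtain ⟨r', s', e', hr'⟩ := exists_basicOpen_le_affine_inter hU' U₁'.2 (q' z) ⟨hzU', hzU₁'⟩
    obtain ⟨t, ht, hxt⟩ := (hU'.basicOpen r').exists_basicOpen_le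
      (V := g ⁻¹ᵁ S.basicOpen r) ⟨q' z, hr⟩ hr'
    obtain ⟨r₁, hr₁⟩ := hU'.basicOpen_basicOpen_is_basicOpen r' t
    have hVU : azs (S'.basicOpen t) ((hU'.basicOpen r').basicOpen t) ≤ azs U' hU' := ⟨r₁, hr₁⟩
    have h1 : azs (S'.basicOpen t) ((hU'.basicOpen r').basicOpen t) ≤
      azs (S'.basicOpen r') (hU'.basicOpen r') := ⟨t, rfl⟩
    have h2 : azs (S'.basicOpen r') (hU'.basicOpen r') ≤ azs U₁'.1 U₁'.2 := ⟨s', e'.symm⟩
    have hVU₁ : azs (S'.basicOpen t) ((hU'.basicOpen r').basicOpen t) ≤ azs U₁'.1 U₁'.2 := h1.trans h2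
    set V' := S'.basicOpen t
    have hV' : IsAffineOpen V' := (hU'.basicOpen r').basicOpen t
    have hW : IsAffineOpen (S.basicOpen r) := hU.basicOpen r
    have hWU₁ : S.basicOpen r ≤ U₁.1 := e.trans_le (S.basicOpen_le s)
    obtain ⟨y, hy⟩ : z ∈ (RelProj.emb q' ch' V' hV').opensRange := by rw [opensRange_emb]; exact hxt
    have hwy : (functor 𝒮').map (homOfLE hVU₁) y = w := by
      refine (RelProj.emb q' ch' U₁'.1 U₁'.2).isOpenEmbedding.injective ?_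
      refine (Scheme.Hom.comp_apply _ _ _).symm.trans ?_
      exact (congrArg (fun k : _ ⟶ P' => k y) (functor_map_emb hP' (homOfLE hVU₁))).trans hy
    have hy₁ : u.gradedAt _ hW V' hV' ht (𝒮.res U₁.2 hW hWU₁ f') ∉ y.asHomogeneousIdeal := by
      rw [← res_gradedAt u U₁.2 hW hWU₁ U₁'.2 hV' (Scheme.AffineZariskiSite.toOpens_mono hVU₁) hle₁ ht]
      exact fun hm => hfd (hwy ▸ hm)
    letI := (𝒮.presheaf.map (homOfLE (S.basicOpen_le r)).op).hom.toAlgebra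
    haveI : IsLocalization.Away ((𝒮.str.app (op U)).hom r) (𝒮.presheaf.obj (op (S.basicOpen r))) :=
      𝒮.isQC U hU r
    obtain ⟨⟨a, ⟨_, k, rfl⟩⟩, hak⟩ := IsLocalization.surj
      (Submonoid.powers ((𝒮.str.app (op U)).hom r)) (𝒮.res U₁.2 hW hWU₁ f')
    set c := (𝒮.str.app (op U)).hom r
    change 𝒮.res U₁.2 hW hWU₁ f' * 𝒮.res hU hW (S.basicOpen_le r) (c ^ k) =
      𝒮.res hU hW (S.basicOpen_le r) a at hak
    set a' : 𝒮.presheaf.obj (op U) := (DirectSum.decompose (𝒮.deg U hU) a d : 𝒮.presheaf.obj (op U)) with ha'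
    have ha'r : 𝒮.res hU hW (S.basicOpen_le r) a' =
        𝒮.res U₁.2 hW hWU₁ f' * 𝒮.res hU hW (S.basicOpen_le r) (c ^ k) := by
      have hmem : 𝒮.res U₁.2 hW hWU₁ f' * 𝒮.res hU hW (S.basicOpen_le r) (c ^ k) ∈
          𝒮.deg _ hW d := by
        have h0 : c ^ k ∈ 𝒮.deg U hU 0 := by
          simpa using SetLike.pow_mem_graded k (𝒮.str_mem U hU r)
        simpa using SetLike.mul_mem_graded (𝒮.map_mem U₁.2 hW hWU₁ (SetLike.coe_mem _))
          (𝒮.map_mem hU hW (S.basicOpen_le r) h0)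
      rw [ha', GradedRingHom.map_directSumDecompose, ← hak, DirectSum.decompose_of_mem_same _ hmem]
    refine ⟨(functor 𝒮').map (homOfLE hVU) y,
      (RelCone.mem_domOpen _ _).mpr ⟨a',
        HomogeneousIdeal.mem_irrelevant_of_mem _ hd (SetLike.coe_mem _), fun hm => ?_⟩, ?_⟩
    · have hm' : 𝒮'.res hU' hV' (Scheme.AffineZariskiSite.toOpens_mono hVU)
          (u.gradedAt U hU U' hU' hle a') ∈ y.asHomogeneousIdeal := hm
      rw [res_gradedAt u hU hW (S.basicOpen_le r) hU' hV' _ hle ht, ha'r, map_mul] at hm'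
      rcases y.isPrime.mem_or_mem hm' with h₁ | h₁
      · exact hy₁ h₁
      · refine y.isPrime.ne_top (Ideal.eq_top_of_isUnit_mem _ h₁ ?_)
        exact (IsLocalization.map_units (M := Submonoid.powers c) (𝒮.presheaf.obj (op (S.basicOpen r)))
          ⟨c ^ k, k, rfl⟩).map (u.gradedAt _ hW V' hV' ht)
    · refine (Scheme.Hom.comp_apply _ _ _).symm.trans ?_
      exact (congrArg (fun m : _ ⟶ P' => m y) (functor_map_emb hP' (homOfLE hVU))).trans hy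
  · exact le_iSup (fun V : {V : S.affineOpens × S'.affineOpens // (V.2 : S'.Opens) ≤ g ⁻¹ᵁ (V.1 : S.Opens)} =>
      (RelProj.emb q' ch' V.1.2.1 V.1.2.2) ''ᵁ
        RelCone.domOpen (u.gradedAt V.1.1.1 V.1.1.2 V.1.2.1 V.1.2.2 V.2))
      ⟨(⟨U, hU⟩, ⟨U', hU'⟩), hle⟩

omit hP in
lemma exists_idx_of_mem {z : P'} (hz : z ∈ RelProj.domQ u q' ch') {U : S.Opens} (hU : IsAffineOpen U)
    {U' : S'.Opens} (hU' : IsAffineOpen U') (hle : U' ≤ g ⁻¹ᵁ U) (hzU : q' z ∈ U') :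
    ∃ (d : ℕ) (hd : 0 < d) (f : 𝒮.presheaf.obj (op U)) (hf : f ∈ 𝒮.deg U hU d),
      z ∈ (src u q' ch' ⟨U, hU, U', hU', hle, d, hd, f, hf⟩).opensRange := by
  classical
  have h : z ∈ RelProj.domQ u q' ch' ⊓ q' ⁻¹ᵁ U' := ⟨hz, hzU⟩
  rw [domQ_inf u hP' hU hU' hle] at h
  obtain ⟨y, hy, rfl⟩ := h
  obtain ⟨f, hf, hfy⟩ := (RelCone.mem_domOpen _ _).mp hy
  by_contra! hno
  apply hfy
  rw [← DirectSum.sum_support_decompose (𝒮.deg U hU) f, map_sum]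
  refine Ideal.sum_mem _ fun i _ => ?_
  rcases Nat.eq_zero_or_pos i with rfl | hi
  · rw [show (DirectSum.decompose (𝒮.deg U hU) f 0 : 𝒮.presheaf.obj (op U)) = 0 from hf, map_zero]
    exact Ideal.zero_mem _
  · by_contra hm
    refine hno i hi (DirectSum.decompose (𝒮.deg U hU) f i : 𝒮.presheaf.obj (op U)) (SetLike.coe_mem _) ?_
    rw [opensRange_src]
    exact ⟨y, hm, rfl⟩

omit hP in
lemma exists_pair_mem (z : P') :
    ∃ (U : S.affineOpens) (U' : S'.affineOpens), U'.1 ≤ g ⁻¹ᵁ U.1 ∧ q' z ∈ U'.1 := by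
  obtain ⟨U, hU⟩ := Opens.mem_iSup.mp ((iSup_affineOpens_eq_top S).ge (Set.mem_univ (g (q' z))))
  obtain ⟨_, ⟨U', hU', rfl⟩, hzU', hle⟩ :=
    S'.isBasis_affineOpens.exists_subset_of_mem_open (show q' z ∈ g ⁻¹ᵁ U.1 from hU) (g ⁻¹ᵁ U.1).2
  exact ⟨U, ⟨U', hU'⟩, hle, hzU'⟩

omit hP hP' in
variable (q' ch') in
/-- The chart lifted into `G(u)`. -/
def srcLift (c : Idx (g := g) (𝒮 := 𝒮)) :
    Spec (.of (Away (𝒮'.deg c.U' c.hU') (u.gradedAt c.U c.hU c.U' c.hU' c.hle c.f))) ⟶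
      (RelProj.domQ u q' ch' : P'.Opens) :=
  IsOpenImmersion.lift (RelProj.domQ u q' ch').ι (src u q' ch' c)
    (RelProj.range_awayEmb_subset_domQ u q' ch' c.U c.hU c.U' c.hU' c.hle c.hd c.f c.hf)

omit hP hP' in
@[reassoc]
lemma srcLift_ι (c : Idx (g := g) (𝒮 := 𝒮)) :
    srcLift u q' ch' c ≫ (RelProj.domQ u q' ch').ι = src u q' ch' c :=
  IsOpenImmersion.lift_fac ..

omit hP hP' in
instance (c : Idx (g := g) (𝒮 := 𝒮)) : IsOpenImmersion (srcLift u q' ch' c) := by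
  haveI : IsOpenImmersion (srcLift u q' ch' c ≫ (RelProj.domQ u q' ch').ι) := by
    rw [srcLift_ι]; infer_instance
  exact IsOpenImmersion.of_comp _ (RelProj.domQ u q' ch').ι

omit hP in
lemma srcLift_covers (z : (RelProj.domQ u q' ch' : P'.Opens).toScheme) :
    ∃ c : Idx (g := g) (𝒮 := 𝒮), z ∈ (srcLift u q' ch' c).opensRange := by
  obtain ⟨U, U', hle, hzU'⟩ := exists_pair_mem (g := g) hP' ((RelProj.domQ u q' ch').ι z)
  obtain ⟨d, hd, f, hf, a, ha⟩ := exists_idx_of_mem u hP' z.2 U.2 U'.2 hle hzU'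
  refine ⟨⟨U.1, U.2, U'.1, U'.2, hle, d, hd, f, hf⟩, a,
    (RelProj.domQ u q' ch').ι.isOpenEmbedding.injective ?_⟩
  rw [← Scheme.Hom.comp_apply, srcLift_ι]
  exact ha

omit hP in
/-- The standard charts cover `G(u)`. -/
def qCover : (RelProj.domQ u q' ch' : P'.Opens).toScheme.OpenCover :=
  Scheme.Cover.mkOfCovers (Idx (g := g) (𝒮 := 𝒮)) _ (srcLift u q' ch')
    (fun z => srcLift_covers u hP' z) inferInstance

omit hP hP' in
lemma isProjQMapOn_iff (v : (RelProj.domQ u q' ch' : P'.Opens).toScheme ⟶ P) :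
    RelProj.IsProjQMapOn u q ch q' ch' (RelProj.domQ u q' ch') v ↔
      ∀ c : Idx (g := g) (𝒮 := 𝒮), srcLift u q' ch' c ≫ v = tgt u q ch c :=
  ⟨fun h c => h c.U c.hU c.U' c.hU' c.hle c.d c.hd c.f c.hf _,
    fun h U hU U' hU' hle d hd f hf _ => h ⟨U, hU, U', hU', hle, d, hd, f, hf⟩⟩

/-- Existence and uniqueness of `Proj(u)` on `G(u)`. -/
theorem existsUnique_qmap :
    ∃! v : (RelProj.domQ u q' ch' : P'.Opens).toScheme ⟶ P,
      RelProj.IsProjQMapOn u q ch q' ch' (RelProj.domQ u q' ch') v := by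
  simp only [isProjQMapOn_iff]
  let 𝒰 := qCover u hP'
  have hcompat : ∀ c c' : Idx (g := g) (𝒮 := 𝒮),
      pullback.fst (srcLift u q' ch' c) (srcLift u q' ch' c') ≫ tgt u q ch c =
        pullback.snd _ _ ≫ tgt u q ch c' := by
    intro c c'
    let K := pullback (srcLift u q' ch' c) (srcLift u q' ch' c')
    have hloc : ∀ z : K, ∃ (T : Scheme.{u}) (k : T ⟶ K), IsOpenImmersion k ∧ z ∈ Set.range k ∧
        k ≫ pullback.fst _ _ ≫ tgt u q ch c = k ≫ pullback.snd _ _ ≫ tgt u q ch c' := by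
      intro z
      obtain ⟨T, j, j', ha, hj, hs, ht⟩ := tgt_eq_tgt u hP hP' c c'
        ((pullback.fst (srcLift u q' ch' c) (srcLift u q' ch' c')) z)
        ((pullback.snd (srcLift u q' ch' c) (srcLift u q' ch' c')) z) (by
          rw [← srcLift_ι u c, ← srcLift_ι u c', ← Scheme.Hom.comp_apply, ← Scheme.Hom.comp_apply,
            pullback.condition_assoc])
      have hs' : j ≫ srcLift u q' ch' c = j' ≫ srcLift u q' ch' c' := by
        rw [← cancel_mono (RelProj.domQ u q' ch').ι, Category.assoc, Category.assoc, srcLift_ι,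
          srcLift_ι, hs]
      let k := pullback.lift j j' hs'
      haveI : IsOpenImmersion (k ≫ pullback.fst _ _) := by rw [pullback.lift_fst]; exact hj
      haveI : IsOpenImmersion k := IsOpenImmersion.of_comp k (pullback.fst _ _)
      refine ⟨T, k, inferInstance, ?_, by
        rw [← Category.assoc, ← Category.assoc, pullback.lift_fst, pullback.lift_snd, ht]⟩
      obtain ⟨t, ht⟩ := ha
      exact ⟨t, (pullback.fst (srcLift u q' ch' c) (srcLift u q' ch' c')).isOpenEmbedding.injective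
        (by rw [← Scheme.Hom.comp_apply, pullback.lift_fst, ht])⟩
    choose T k hk hz he using hloc
    exact (Scheme.Cover.mkOfCovers K T k (fun z => ⟨z, hz z⟩) hk : K.OpenCover).hom_ext _ _ he
  refine ⟨𝒰.glueMorphisms (tgt u q ch) hcompat, fun c => 𝒰.ι_glueMorphisms _ hcompat c, fun v hv => ?_⟩
  exact 𝒰.hom_ext _ _ fun c => (hv c).trans (𝒰.ι_glueMorphisms _ hcompat c).symm

theorem qmap_over {v : (RelProj.domQ u q' ch' : P'.Opens).toScheme ⟶ P}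
    (hv : RelProj.IsProjQMapOn u q ch q' ch' (RelProj.domQ u q' ch') v) :
    v ≫ q = (RelProj.domQ u q' ch').ι ≫ q' ≫ g := by
  rw [isProjQMapOn_iff] at hv
  refine (qCover u hP').hom_ext _ _ fun c => ?_
  change srcLift u q' ch' c ≫ v ≫ q = srcLift u q' ch' c ≫ (RelProj.domQ u q' ch').ι ≫ q' ≫ g
  rw [← Category.assoc, hv c, srcLift_ι_assoc]
  unfold src RelProj.awayEmb tgt
  simp only [Category.assoc]
  rw [emb_p hP, emb_p_assoc hP', affBase_eq, affBase_eq, Category.assoc, Category.assoc,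
    Proj.awayι_toSpecZero_assoc, Proj.awayι_toSpecZero_assoc,
    ← IsAffineOpen.SpecMap_appLE_fromSpec g c.hU c.hU' c.hle]
  simp only [← Spec.map_comp_assoc]
  congr 2
  ext x : 2
  change Away.map (u.gradedAt c.U c.hU c.U' c.hU' c.hle) c.f
      (fromZeroRingHom _ _ ((𝒮.strZero c.U c.hU).hom x)) =
    fromZeroRingHom _ _ ((𝒮'.strZero c.U' c.hU').hom ((g.appLE c.U c.U' c.hle).hom x))
  rw [away_map_fromZero]
  exact congrArg _ (Subtype.ext (ConcreteCategory.congr_hom (u.toQHom.str_appLE c.U c.U' c.hle) x))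

end Groth.Agent.RelProjLib
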