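import Groth.Agent.RelProjLib.QMapPre
import Groth.Agent.RelProjLib.QMapId
import Groth.Agent.ProjLib.Nonempty

/-!
`Proj(u ∘ v) = Proj(v) ∘ Proj(u)` for a graded homomorphism `v` on the base.
-/

set_option autoImplicit false
set_option linter.style.haveILetI false
set_option backward.isDefEq.respectTransparency false

universe u

open CategoryTheory CategoryTheory.Limits AlgebraicGeometry TopologicalSpace Opposite
  HomogeneousLocalization
open scoped HomogeneousIdeal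

noncomputable section

namespace Groth.Agent.RelProjLib

lemma away_map_congr {A B σ τ : Type u} [CommRing A] [SetLike σ A] [AddSubgroupClass σ A]
    [CommRing B] [SetLike τ B] [AddSubgroupClass τ B] {𝒜 : ℕ → σ} {ℬ : ℕ → τ} [GradedRing 𝒜]
    [GradedRing ℬ] {φ φ' : 𝒜 →+*ᵍ ℬ} (e : φ = φ') (f : A) :
    Spec.map (CommRingCat.ofHom (Away.map φ f)) =
      eqToHom (by rw [e]) ≫ Spec.map (CommRingCat.ofHom (Away.map φ' f)) := by
  subst e; simp

variable {S S' : Scheme.{u}} {g : S' ⟶ S} {𝒯 𝒮 : RelProj.QCGrAlg S} {𝒮' : RelProj.QCGrAlg S'}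
  (u : RelProj.QGrHom g 𝒮 𝒮') (v : 𝒯.toQCAlg ⟶ 𝒮.toQCAlg) (hv : RelProj.IsGradedHom v)
  (u' : RelProj.QGrHom g 𝒯 𝒮') (hu' : ∀ U : S.Opens, u'.app U = v.hom.app (op U) ≫ u.app U)
  {P T P' : Scheme.{u}} {q : P ⟶ S} {qT : T ⟶ S} {q' : P' ⟶ S'}
  {ch : ∀ (U : S.Opens) (hU : IsAffineOpen U), ((q ⁻¹ᵁ U : P.Opens) : Scheme.{u}) ≅ Proj (𝒮.deg U hU)}
  {chT : ∀ (U : S.Opens) (hU : IsAffineOpen U), ((qT ⁻¹ᵁ U : T.Opens) : Scheme.{u}) ≅ Proj (𝒯.deg U hU)}
  {ch' : ∀ (U' : S'.Opens) (hU' : IsAffineOpen U'), ((q' ⁻¹ᵁ U' : P'.Opens) : Scheme.{u}) ≅ Proj (𝒮'.deg U' hU')}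
  (hP : RelProj.IsRelProj 𝒮 q ch) (hT : RelProj.IsRelProj 𝒯 qT chT)
  (hP' : RelProj.IsRelProj 𝒮' q' ch')

include hu'

lemma gradedAt_comp {U : S.Opens} (hU : IsAffineOpen U) {U' : S'.Opens} (hU' : IsAffineOpen U')
    (hle : U' ≤ g ⁻¹ᵁ U) :
    u'.gradedAt U hU U' hU' hle =
      (u.gradedAt U hU U' hU' hle).comp (gAt v hv U hU) :=
  GradedRingHom.ext fun x => by
    rw [RelProj.QGrHom.gradedAt_apply, RelSpec.QHom.appLE, hu']
    change _ = u.gradedAt U hU U' hU' hle (gAt v hv U hU x)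
    rw [gAt_apply, RelProj.QGrHom.gradedAt_apply]
    rfl

include hv in
lemma domQ_comp_le : RelProj.domQ u' q' ch' ≤ RelProj.domQ u q' ch' := by
  refine iSup_le fun V => ?_
  rintro _ ⟨w, hw, rfl⟩
  obtain ⟨f, hf, hfw⟩ := (RelCone.mem_domOpen _ _).mp hw
  refine Opens.mem_iSup.mpr ⟨V, w, (RelCone.mem_domOpen _ _).mpr
    ⟨gAt v hv V.1.1.1 V.1.1.2 f, ?_, ?_⟩, rfl⟩
  · rw [HomogeneousIdeal.mem_iff, HomogeneousIdeal.mem_irrelevant_iff] at *
    rw [GradedRing.proj_apply, ← GradedRingHom.map_directSumDecompose, ← GradedRing.proj_apply, hf,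
      map_zero]
  · rw [gradedAt_comp u v hv u' hu'] at hfw
    exact hfw

include hP' in
/-- `G(u∘v) = G(u) ∩ r⁻¹ G(v)`. -/
theorem mem_domQ_comp_iff {r : (RelProj.domQ u q' ch' : P'.Opens).toScheme ⟶ P}
    (hP : RelProj.IsRelProj 𝒮 q ch)
    (hr : RelProj.IsProjQMapOn u q ch q' ch' (RelProj.domQ u q' ch') r)
    (z : (RelProj.domQ u q' ch' : P'.Opens).toScheme) :
    (RelProj.domQ u q' ch').ι z ∈ RelProj.domQ u' q' ch' ↔
      r z ∈ RelProj.domQ (RelProj.QGrHom.ofHom v hv) q ch := by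
  classical
  obtain ⟨U, U', hle, hzU'⟩ := exists_pair_mem (g := g) hP' ((RelProj.domQ u q' ch').ι z)
  have hrU : q (r z) ∈ U.1 := by
    rw [← Scheme.Hom.comp_apply, qmap_over u hP hP' hr, Scheme.Hom.comp_apply, Scheme.Hom.comp_apply]
    exact hle hzU'
  constructor
  · intro hz
    obtain ⟨d, hd, f, hf, hzf⟩ := exists_idx_of_mem u' hP' hz U.2 U'.2 hle hzU'
    rw [opensRange_src, gradedAt_comp u v hv u' hu'] at hzf
    have := (mem_preimage_iff u hP' hr U.2 U'.2 hle hd (Graded.map_mem (gAt v hv U.1 U.2) hf) z hzU').mpr hzf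
    obtain ⟨y, hy, hyz⟩ := this
    rw [← hyz]
    exact le_iSup (fun V : {V : S.affineOpens × S.affineOpens // (V.2 : S.Opens) ≤ (𝟙 S) ⁻¹ᵁ (V.1 : S.Opens)} =>
      (RelProj.emb q ch V.1.2.1 V.1.2.2) ''ᵁ
        RelCone.domOpen ((RelProj.QGrHom.ofHom v hv).gradedAt V.1.1.1 V.1.1.2 V.1.2.1 V.1.2.2 V.2))
      ⟨(U, U), le_refl U.1⟩ ⟨y, (RelCone.mem_domOpen _ _).mpr
        ⟨f, HomogeneousIdeal.mem_irrelevant_of_mem _ hd hf, hy⟩, rfl⟩
  · intro hz
    obtain ⟨d, hd, f, hf, hzf⟩ :=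
      exists_idx_of_mem (g := 𝟙 S) (RelProj.QGrHom.ofHom v hv) hP hz U.2 U.2 (le_refl U.1) hrU
    rw [opensRange_src] at hzf
    have := (mem_preimage_iff u hP' hr U.2 U'.2 hle hd (Graded.map_mem (gAt v hv U.1 U.2) hf) z hzU').mp hzf
    obtain ⟨y, hy, hyz⟩ := this
    rw [← hyz]
    exact le_iSup (fun V : {V : S.affineOpens × S'.affineOpens // (V.2 : S'.Opens) ≤ g ⁻¹ᵁ (V.1 : S.Opens)} =>
      (RelProj.emb q' ch' V.1.2.1 V.1.2.2) ''ᵁ
        RelCone.domOpen (u'.gradedAt V.1.1.1 V.1.1.2 V.1.2.1 V.1.2.2 V.2))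
      ⟨(U, U'), hle⟩ ⟨y, (RelCone.mem_domOpen _ _).mpr
        ⟨f, HomogeneousIdeal.mem_irrelevant_of_mem _ hd hf, by
          rw [gradedAt_comp u v hv u' hu']; exact hy⟩, rfl⟩

include hP hT hP' in
/-- `Proj(u ∘ v)` factors as `Proj(u)` followed by `Proj(v)`. -/
theorem qmap_comp {r : (RelProj.domQ u q' ch' : P'.Opens).toScheme ⟶ P}
    (hr : RelProj.IsProjQMapOn u q ch q' ch' (RelProj.domQ u q' ch') r)
    {r' : (RelProj.domQ u' q' ch' : P'.Opens).toScheme ⟶ T}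
    (hr' : RelProj.IsProjQMapOn u' qT chT q' ch' (RelProj.domQ u' q' ch') r')
    {Φ : (RelProj.domQ (RelProj.QGrHom.ofHom v hv) q ch : P.Opens).toScheme ⟶ T}
    (hΦ : RelProj.IsProjQMapOn (RelProj.QGrHom.ofHom v hv) qT chT q ch
      (RelProj.domQ (RelProj.QGrHom.ofHom v hv) q ch) Φ) :
    ∃ k : (RelProj.domQ u' q' ch' : P'.Opens).toScheme ⟶
        (RelProj.domQ (RelProj.QGrHom.ofHom v hv) q ch : P.Opens).toScheme,
      k ≫ (RelProj.domQ (RelProj.QGrHom.ofHom v hv) q ch).ι =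
        P'.homOfLE (domQ_comp_le u v hv u' hu') ≫ r ∧ k ≫ Φ = r' := by
  let D := RelProj.domQ (RelProj.QGrHom.ofHom v hv) q ch
  let m := P'.homOfLE (domQ_comp_le (ch' := ch') u v hv u' hu')
  have hrange : Set.range (m ≫ r).base ⊆ Set.range D.ι.base := by
    rw [Scheme.Opens.range_ι]
    rintro _ ⟨z, rfl⟩
    rw [SetLike.mem_coe, Scheme.Hom.comp_apply, ← mem_domQ_comp_iff u v hv u' hu' hP' hP hr]
    rw [← Scheme.Hom.comp_apply, Scheme.homOfLE_ι]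
    exact z.2
  refine ⟨IsOpenImmersion.lift D.ι (m ≫ r) hrange, IsOpenImmersion.lift_fac _ _ _, ?_⟩
  rw [isProjQMapOn_iff] at hr hr' hΦ
  refine (qCover u' hP').hom_ext _ _ fun c => ?_
  change srcLift u' q' ch' c ≫ IsOpenImmersion.lift D.ι (m ≫ r) hrange ≫ Φ =
    srcLift u' q' ch' c ≫ r'
  rw [hr' c]
  have hgc : u'.gradedAt c.U c.hU c.U' c.hU' c.hle =
      (u.gradedAt c.U c.hU c.U' c.hU' c.hle).comp (gAt v hv c.U c.hU) :=
    gradedAt_comp u v hv u' hu' c.hU c.hU' c.hle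
  let cu : Idx (g := g) (𝒮 := 𝒮) :=
    ⟨c.U, c.hU, c.U', c.hU', c.hle, c.d, c.hd, gAt v hv c.U c.hU c.f, Graded.map_mem _ c.hf⟩
  let cv : Idx (g := 𝟙 S) (𝒮 := 𝒯) := ⟨c.U, c.hU, c.U, c.hU, le_refl c.U, c.d, c.hd, c.f, c.hf⟩
  have key : ∀ (w : 𝒮'.presheaf.obj (op c.U')) (hw : w ∈ 𝒮'.deg c.U' c.hU' c.d)
      (e : w = u.gradedAt c.U c.hU c.U' c.hU' c.hle (gAt v hv c.U c.hU c.f)),
      Proj.awayι (𝒮'.deg c.U' c.hU') w hw c.hd ≫ RelProj.emb q' ch' c.U' c.hU' =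
        eqToHom (by rw [e]) ≫ src u q' ch' cu := by
    rintro w hw rfl
    simp only [eqToHom_refl, Category.id_comp]
    rfl
  have e₁ : u'.gradedAt c.U c.hU c.U' c.hU' c.hle c.f =
      u.gradedAt c.U c.hU c.U' c.hU' c.hle (gAt v hv c.U c.hU c.f) := by rw [hgc]; rfl
  have hs : srcLift u' q' ch' c ≫ m = eqToHom (by rw [e₁]) ≫ srcLift u q' ch' cu := by
    rw [← cancel_mono (RelProj.domQ u q' ch').ι, Category.assoc, Category.assoc, Scheme.homOfLE_ι,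
      srcLift_ι, srcLift_ι]
    exact key _ _ e₁
  have hk : srcLift u' q' ch' c ≫ IsOpenImmersion.lift D.ι (m ≫ r) hrange =
      eqToHom (by rw [e₁]) ≫ Spec.map (CommRingCat.ofHom
        (Away.map (u.gradedAt c.U c.hU c.U' c.hU' c.hle) (gAt v hv c.U c.hU c.f))) ≫
        srcLift (RelProj.QGrHom.ofHom v hv) q ch cv := by
    rw [← cancel_mono D.ι, Category.assoc, IsOpenImmersion.lift_fac, ← Category.assoc, hs,
      Category.assoc, Category.assoc, Category.assoc, hr cu, srcLift_ι]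
    rfl
  rw [← Category.assoc, hk, Category.assoc, Category.assoc, hΦ cv]
  unfold tgt
  rw [away_map_congr hgc c.f, Category.assoc]
  congr 1
  rw [← Category.assoc, ← Spec.map_comp, ← CommRingCat.ofHom_comp]
  congr 2
  rw [Away.map_comp]

omit hu' in
include hP hT in
/-- `Proj(v)` for `v` surjective in large degrees is an everywhere defined closed immersion. -/
theorem isClosedImmersion_qmap_of_large {N : ℕ}
    (hsurj : ∀ k, N ≤ k → ∀ (U : S.Opens) (hU : IsAffineOpen U), ∀ y ∈ 𝒮.deg U hU k,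
      ∃ x ∈ 𝒯.deg U hU k, (v.hom.app (op U)).hom x = y)
    {Φ : (RelProj.domQ (RelProj.QGrHom.ofHom v hv) q ch : P.Opens).toScheme ⟶ T}
    (hΦ : RelProj.IsProjQMapOn (RelProj.QGrHom.ofHom v hv) qT chT q ch
      (RelProj.domQ (RelProj.QGrHom.ofHom v hv) q ch) Φ) :
    IsIso (RelProj.domQ (RelProj.QGrHom.ofHom v hv) q ch).ι ∧ IsClosedImmersion Φ := by
  have hD := domQ_eq_top (φ := v) (hφ := hv) q ch hsurj
  haveI hι : IsIso (RelProj.domQ (RelProj.QGrHom.ofHom v hv) q ch).ι := by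
    rw [hD]; exact (Scheme.topIso P).isIso_hom
  refine ⟨hι, ?_⟩
  have hh : RelProj.IsProjQMap (RelProj.QGrHom.ofHom v hv) qT chT q ch
      (inv (RelProj.domQ (RelProj.QGrHom.ofHom v hv) q ch).ι ≫ Φ) := by
    refine ⟨hD, fun U hU U' hU' hle d hd f hf => ?_⟩
    let c : Idx (g := 𝟙 S) (𝒮 := 𝒯) := ⟨U, hU, U', hU', hle, d, hd, f, hf⟩
    have hs : src (RelProj.QGrHom.ofHom v hv) q ch c ≫
        inv (RelProj.domQ (RelProj.QGrHom.ofHom v hv) q ch).ι =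
        srcLift (RelProj.QGrHom.ofHom v hv) q ch c := by
      rw [IsIso.comp_inv_eq, srcLift_ι]
    have h2 : src (RelProj.QGrHom.ofHom v hv) q ch c ≫
        inv (RelProj.domQ (RelProj.QGrHom.ofHom v hv) q ch).ι ≫ Φ =
        tgt (RelProj.QGrHom.ofHom v hv) qT chT c := by
      rw [← Category.assoc, hs]
      exact (isProjQMapOn_iff _ _).mp hΦ c
    exact h2
  have := prop_of_qmap hsurj hT hP @IsClosedImmersion hh fun U hU d hd f hf =>
    IsClosedImmersion.spec_of_surjective _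
      (away_map_surjective_of_large _ N (gAt_surj hsurj U hU) hf hd)
  exact (MorphismProperty.cancel_left_of_respectsIso (P := @IsClosedImmersion) _ Φ).mp this

end Groth.Agent.RelProjLib
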